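import Groth.Prelude.Def_ActBC
import Groth.Agent.TateLoc.K114.FrobHom
import Groth.Agent.PerfSch.K818.Exist

/-!
# The iterated relative Frobenius of a group scheme

`relIter p n G : G ⟶ Red.bc (FrobSch.frobIter S p n) G`, a homomorphism (`isMonHom_relIter`) which is affine
(`isAffineHom_relIter`).
-/

set_option autoImplicit false
universe u
open CategoryTheory MonoidalCategory CartesianMonoidalCategory MonObj GrpObj AlgebraicGeometry Limits

namespace K362.RelIter

open Groth.Agent.Sga3B

variable (p : ℕ) [Fact p.Prime] {S : Scheme.{u}} [FrobSch.IsCharP S p]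

/-- The iterated relative Frobenius as a morphism over `S`. -/
noncomputable def relIter (n : ℕ) (G : Over S) : G ⟶ Red.bc (FrobSch.frobIter S p n) G :=
  haveI : FrobSch.IsCharP G.left p := FrobSch.IsCharP.of_hom G.hom p
  Over.homMk (pullback.lift (FrobSch.frobIter G.left p n) G.hom (K818.Tower.frobIter_naturality G.hom n))
    (pullback.lift_snd _ _ _)

theorem relIter_left_fst (n : ℕ) (G : Over S) [FrobSch.IsCharP G.left p] :
    (relIter p n G).left ≫ pullback.fst G.hom (FrobSch.frobIter S p n) = FrobSch.frobIter G.left p n :=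
  pullback.lift_fst _ _ _

/-- The iterated absolute Frobenius of `T`, as a morphism over `S`. -/
noncomputable def phi (n : ℕ) (T : Over S) : (Over.map (FrobSch.frobIter S p n)).obj T ⟶ T :=
  haveI : FrobSch.IsCharP T.left p := FrobSch.IsCharP.of_hom T.hom p
  Over.homMk (FrobSch.frobIter T.left p n) (K818.Tower.frobIter_naturality T.hom n)

theorem bcEquiv_symm_relIter (n : ℕ) (G : Over S) [GrpObj G] {T : Over S} (x : T ⟶ G) :
    (DSPts.bcEquiv (FrobSch.frobIter S p n) T G).symm (x ≫ relIter p n G) = phi p n T ≫ x := by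
  haveI : FrobSch.IsCharP T.left p := FrobSch.IsCharP.of_hom T.hom p
  haveI : FrobSch.IsCharP G.left p := FrobSch.IsCharP.of_hom G.hom p
  ext1
  rw [DSPts.bcEquiv_symm_left, Over.comp_left, Over.comp_left, Category.assoc, relIter_left_fst]
  exact (K818.Tower.frobIter_naturality x.left n).symm

instance isMonHom_relIter (n : ℕ) (G : Over S) [GrpObj G] : IsMonHom (relIter p n G) := by
  apply Pts.isMonHom_of_points
  intro X x y
  apply (DSPts.bcEquiv (FrobSch.frobIter S p n) X G).symm.injective
  rw [map_mul, bcEquiv_symm_relIter, bcEquiv_symm_relIter, bcEquiv_symm_relIter, MonObj.comp_mul]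

theorem isAffineHom_relIter (n : ℕ) (G : Over S) : IsAffineHom (relIter p n G).left := by
  haveI : FrobSch.IsCharP G.left p := FrobSch.IsCharP.of_hom G.hom p
  have h1 : IsAffineHom ((relIter p n G).left ≫ pullback.fst G.hom (FrobSch.frobIter S p n)) := by
    rw [relIter_left_fst]
    infer_instance
  exact IsAffineHom.of_comp _ (pullback.fst G.hom (FrobSch.frobIter S p n))

end K362.RelIter
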