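import Groth.Agent.S4141
import Groth.Agent.S6085
import Groth.Agent.S6086
import Groth.Agent.PerfSch.K818.Struct
import Groth.Agent.Etbase.FpqcDescent
import Groth.Agent.AbVar.K509.Basic
import Groth.Agent.Sga3.H780.Pointed
import Groth.Agent.Sga3.H794.ChevStep
import Groth.Agent.Neron.K362.RelIter
import Mathlib.AlgebraicGeometry.Morphisms.FlatDescent

/-!
# A homomorphism with affine fibres to an abelian variety, over an arbitrary field

`exists_hom`: a smooth connected commutative group scheme of finite type over a field has an affine homomorphism to an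
abelian variety (Chevalley over the perfect closure, descended with the iterated relative Frobenius).
-/

set_option autoImplicit false
universe u
open CategoryTheory MonoidalCategory CartesianMonoidalCategory MonObj GrpObj AlgebraicGeometry Limits

namespace K362.AbQuot

section Desc

variable {S T : Scheme.{u}} (f : T ⟶ S) [Surjective f] [Flat f] [QuasiCompact f]

theorem isProper_desc (B : Over S) [IsProper (Red.bc f B).hom] : IsProper B.hom := by
  have := Groth.Agent.Etbase.FpqcDescent.descendsAlong_isProper.{u}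
  exact MorphismProperty.of_pullback_snd_of_descendsAlong (P := @IsProper)
    (Q := @Surjective ⊓ @Flat ⊓ @QuasiCompact) (f := B.hom) (g := f) ⟨⟨‹_›, ‹_›⟩, ‹_›⟩
    (inferInstanceAs (IsProper (Red.bc f B).hom))

theorem smooth_desc (B : Over S) [Smooth (Red.bc f B).hom] : Smooth B.hom := by
  exact MorphismProperty.of_pullback_snd_of_descendsAlong (P := @Smooth)
    (Q := @Surjective ⊓ @Flat ⊓ @QuasiCompact) (f := B.hom) (g := f) ⟨⟨‹_›, ‹_›⟩, ‹_›⟩
    (inferInstanceAs (Smooth (Red.bc f B).hom))

theorem isAffineHom_desc {A B : Over S} (u : A ⟶ B) [h : IsAffineHom ((Over.pullback f).map u).left] :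
    IsAffineHom u.left := by
  have := Groth.Agent.Etbase.FpqcDescent.descendsAlong_isAffineHom.{u}
  have h1 := K509.Basic.isPullback_map_left f u
  have h2 : Surjective (pullback.fst B.hom f) := inferInstance
  have h3 : Flat (pullback.fst B.hom f) := inferInstance
  have h4 : QuasiCompact (pullback.fst B.hom f) := inferInstance
  exact MorphismProperty.of_isPullback_of_descendsAlong (P := @IsAffineHom)
    (Q := @Surjective ⊓ @Flat ⊓ @QuasiCompact) h1 ⟨⟨h2, h3⟩, h4⟩ h

omit [Flat f] [QuasiCompact f] in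
theorem connectedSpace_desc (B : Over S) [ConnectedSpace (Red.bc f B).left] : ConnectedSpace B.left := by
  have h2 : Surjective (pullback.fst B.hom f) := inferInstance
  have h3 : ConnectedSpace ↥(pullback B.hom f) := ‹ConnectedSpace (Red.bc f B).left›
  exact h2.surj.connectedSpace (pullback.fst B.hom f).continuous

end Desc

theorem isIso_left {S : Scheme.{u}} {X Y : Over S} (f : X ⟶ Y) [IsIso f] : IsIso f.left :=
  (inferInstance : IsIso ((Over.forget S).map f))

theorem hom_of_iso (P : MorphismProperty Scheme.{u}) [P.RespectsIso] {S : Scheme.{u}} {X Y : Over S} (e : X ≅ Y)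
    (h : P Y.hom) : P X.hom := by
  have := isIso_left e.hom
  rw [← Over.w e.hom]
  exact (P.cancel_left_of_respectsIso _ _).mpr h

theorem connectedSpace_of_iso {S : Scheme.{u}} {X Y : Over S} (e : X ≅ Y) [ConnectedSpace Y.left] :
    ConnectedSpace X.left := by
  have := isIso_left e.inv
  exact (e.inv.left.surjective).connectedSpace e.inv.left.continuous

section Limit

variable {I : Type u} [SmallCategory I] [IsCofiltered I]
    (D : I ⥤ Scheme.{u}) (c : Limits.Cone D) (hc : Limits.IsLimit c)
    [∀ (i i' : I) (f : i ⟶ i'), IsAffineHom (D.map f)] [∀ i, CompactSpace (D.obj i)] [∀ i, QuasiSeparatedSpace (D.obj i)]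
    [∀ i, Surjective (c.π.app i)] [∀ i, Flat (c.π.app i)] [∀ i, QuasiCompact (c.π.app i)]

include hc in
/-- Descent of an affine homomorphism to a proper smooth group scheme to a finite level. -/
theorem exists_level (j0 : I) (G : Over (D.obj j0)) [GrpObj G]
    [LocallyOfFinitePresentation G.hom] [QuasiCompact G.hom] [QuasiSeparated G.hom]
    (Q : Over c.pt) [GrpObj Q] (q : Red.bc (c.π.app j0) G ⟶ Q) [IsMonHom q] [IsAffineHom q.left]
    [IsProper Q.hom] [Smooth Q.hom] [ConnectedSpace Q.left] :
    ∃ (i : I) (g : i ⟶ j0) (B : Over (D.obj i)) (_ : GrpObj B) (v : Red.bc (D.map g) G ⟶ B),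
      IsMonHom v ∧ IsAffineHom v.left ∧ IsProper B.hom ∧ Smooth B.hom ∧ ConnectedSpace B.left := by
  obtain ⟨j, Qj, _, e, he, h1, h2, h3⟩ := Groth.Agent.S6085.result D c hc Q
  have hbc : ∀ {S T : Scheme.{u}} (f : T ⟶ S) (X : Over S) [LocallyOfFinitePresentation X.hom] [QuasiCompact X.hom]
      [QuasiSeparated X.hom], LocallyOfFinitePresentation (Red.bc f X).hom ∧ QuasiCompact (Red.bc f X).hom ∧
        QuasiSeparated (Red.bc f X).hom := fun f X _ _ _ =>
    ⟨inferInstanceAs (LocallyOfFinitePresentation (pullback.snd X.hom f)),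
      inferInstanceAs (QuasiCompact (pullback.snd X.hom f)), inferInstanceAs (QuasiSeparated (pullback.snd X.hom f))⟩
  let j1 : I := IsCofiltered.min j j0
  let a : j1 ⟶ j := IsCofiltered.minToLeft j j0
  let b : j1 ⟶ j0 := IsCofiltered.minToRight j j0
  let αG := ActBC.bcCompIso (c.π.app j1) (D.map b) G (c.w b)
  let αQ := ActBC.bcCompIso (c.π.app j1) (D.map a) Qj (c.w a)
  obtain ⟨k1, k2, k3⟩ := hbc (D.map b) G
  obtain ⟨k4, k5, k6⟩ := hbc (D.map a) Qj
  obtain ⟨i, f, ui, hui, hcomm⟩ := (Groth.Agent.S6086.result D c hc j1 (Red.bc (D.map b) G) (Red.bc (D.map a) Qj)).1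
    (αG.hom ≫ q ≫ e.hom ≫ αQ.inv) inferInstance
  let B : Over (D.obj i) := Red.bc (D.map f) (Red.bc (D.map a) Qj)
  let v : Red.bc (D.map (f ≫ b)) G ⟶ B := (ActBC.bcCompIso (D.map f) (D.map b) G (D.map_comp f b).symm).inv ≫ ui
  let εB : Red.bc (c.π.app i) B ≅ Q :=
    ActBC.bcCompIso (c.π.app i) (D.map f) (Red.bc (D.map a) Qj) (c.w f) ≪≫ αQ ≪≫ e.symm
  have hB1 : IsProper (Red.bc (c.π.app i) B).hom := hom_of_iso @IsProper εB ‹_›
  have hB2 : Smooth (Red.bc (c.π.app i) B).hom := by
    have := isIso_left εB.hom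
    rw [← Over.w εB.hom]
    infer_instance
  have hB3 : ConnectedSpace (Red.bc (c.π.app i) B).left := connectedSpace_of_iso εB
  have hv : IsAffineHom ui.left := by
    have h4 : IsAffineHom ((Over.pullback (c.π.app i)).map ui).left := by
      rw [hcomm]
      have t1 := isIso_left αG.hom
      have t2 := isIso_left e.hom
      have t3 := isIso_left αQ.inv
      have t4 := isIso_left (((Over.pullbackComp (c.π.app i) (D.map f)).app (Red.bc (D.map b) G)).symm ≪≫
        eqToIso (congrArg (fun g => Red.bc g (Red.bc (D.map b) G)) (c.w f))).hom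
      have t5 := isIso_left (((Over.pullbackComp (c.π.app i) (D.map f)).app (Red.bc (D.map a) Qj)).symm ≪≫
        eqToIso (congrArg (fun g => Red.bc g (Red.bc (D.map a) Qj)) (c.w f))).inv
      simp only [Over.comp_left]
      infer_instance
    exact isAffineHom_desc (c.π.app i) ui
  refine ⟨i, f ≫ b, B, inferInstance, v, inferInstance, ?_, isProper_desc (c.π.app i) B,
    smooth_desc (c.π.app i) B, connectedSpace_desc (c.π.app i) B⟩
  have t6 := isIso_left (ActBC.bcCompIso (D.map f) (D.map b) G (D.map_comp f b).symm).inv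
  have : IsAffineHom ((ActBC.bcCompIso (D.map f) (D.map b) G (D.map_comp f b).symm).inv.left ≫ ui.left) :=
    inferInstance
  exact this

end Limit

section Field

variable (K : Type u) [Field K] (G : Over (Spec (CommRingCat.of K))) [GrpObj G]

theorem isAffineHom_quot {k : Type u} [Field k] {L G Q : Over (Spec (CommRingCat.of k))} [GrpObj G] [GrpObj Q]
    [QuasiCompact G.hom] [IsSeparated Q.hom]
    (l : L ⟶ G) (q : G ⟶ Q) [IsMonHom q] [IsAffine L.left] [Surjective q.left] [Flat q.left]
    (hk : AlgGrp.IsKernel l q) : IsAffineHom q.left := by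
  have h1 : QuasiCompact q.left := by
    have : QuasiCompact (q.left ≫ Q.hom) := by rw [Over.w]; infer_instance
    exact QuasiCompact.of_comp q.left Q.hom
  exact Groth.Agent.Sga3.H794.ChevStep.isAffineHom_of_isAffine_ker l q hk

theorem exists_hom_perfect [PerfectField K] [Smooth G.hom] [QuasiCompact G.hom] [ConnectedSpace G.left] :
    ∃ (B : Over (Spec (CommRingCat.of K))) (_ : GrpObj B) (π : G ⟶ B), IsMonHom π ∧ IsAffineHom π.left ∧
      IsProper B.hom ∧ Smooth B.hom ∧ ConnectedSpace B.left := by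
  obtain ⟨L, _, l, Q, _, q, hl, -, hL, -, -, -, hq, hsurj, hflat, hker, hproper, hsmooth, hconn, -⟩ :=
    Groth.Agent.S4141.result K G
  exact ⟨Q, inferInstance, q, hq, isAffineHom_quot l q hker, hproper, hsmooth, hconn⟩

theorem finish (p : ℕ) [Fact p.Prime] {S : Scheme.{u}} [FrobSch.IsCharP S p] (n : ℕ) (G : Over S) [GrpObj G]
    (B : Over S) [iB : GrpObj B] (v : Red.bc (FrobSch.frobIter S p n) G ⟶ B) (hB1 : IsProper B.hom) (hB2 : Smooth B.hom)
    (hB3 : ConnectedSpace B.left) (hv : IsMonHom v) (hva : IsAffineHom v.left) :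
    ∃ (B : Over S) (_ : GrpObj B) (π : G ⟶ B), IsMonHom π ∧ IsAffineHom π.left ∧
      IsProper B.hom ∧ Smooth B.hom ∧ ConnectedSpace B.left :=
  ⟨B, iB, RelIter.relIter p n G ≫ v, inferInstance, by
    have := RelIter.isAffineHom_relIter p n G
    rw [Over.comp_left]
    infer_instance, hB1, hB2, hB3⟩

open K818.Tower K818.Basic FrobSch in
theorem exists_hom_charP (K : Type u) [Field K] (G : Over (Spec (CommRingCat.of K))) [iG : GrpObj G]
    (p : ℕ) [Fact p.Prime] [CharP K p] [Smooth G.hom] [iqc : QuasiCompact G.hom]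
    [ConnectedSpace G.left] :
    ∃ (B : Over (Spec (CommRingCat.of K))) (_ : GrpObj B) (π : G ⟶ B), IsMonHom π ∧ IsAffineHom π.left ∧
      IsProper B.hom ∧ Smooth B.hom ∧ ConnectedSpace B.left := by
  have hS : IsCharP (Spec (CommRingCat.of K)) p := isCharP_spec (CharP.cast_eq_zero K p)
  have hT : IsCharP (Spec (CommRingCat.of (PerfectClosure K p))) p := isCharP_spec (CharP.cast_eq_zero _ p)
  have hpf : PerfectField (PerfectClosure K p) := PerfectRing.toPerfectField _ p
  let π : Spec (CommRingCat.of (PerfectClosure K p)) ⟶ Spec (CommRingCat.of K) :=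
    Spec.map (CommRingCat.ofHom (PerfectClosure.of K p))
  have hrad : IsPRadical (CommRingCat.ofHom (PerfectClosure.of K p)).hom p :=
    inferInstanceAs (IsPRadical (PerfectClosure.of K p) p)
  have hπ : IsPerfection π p := isPerfection_spec (CommRingCat.ofHom (PerfectClosure.of K p))
    (CharP.cast_eq_zero K p) K818.Ring.PerfRing.of_perfectRing
  let D := towerD (Spec (CommRingCat.of K)) p
  let c : Cone D := towerCone π hπ.1
  have hc : IsLimit c := isLimitTowerCone hπ
  have hfl : ∀ f : Spec (CommRingCat.of (PerfectClosure K p)) ⟶ Spec (CommRingCat.of K), Surjective f ∧ Flat f ∧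
      QuasiCompact f := by
    intro f
    refine ⟨⟨fun y => ⟨(⊥ : PrimeSpectrum (PerfectClosure K p)), Subsingleton.elim _ _⟩⟩, ?_, inferInstance⟩
    infer_instance
  let f0 : Spec (CommRingCat.of (PerfectClosure K p)) ⟶ Spec (CommRingCat.of K) := leg c 0
  have h1 : GeometricallyIntegral G.hom := Groth.Agent.Sga3.H780.Pointed.geometricallyIntegral G
  have h2 : GeometricallyIntegral (Red.bc f0 G).hom := K509.Basic.geomInt_bc f0 G
  have h3 : IsIntegral (Red.bc f0 G).left := K509.Basic.isIntegral_left (Red.bc f0 G)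
  have h4 : Smooth (Red.bc f0 G).hom := inferInstanceAs (Smooth (pullback.snd G.hom f0))
  have h5 : QuasiCompact (Red.bc f0 G).hom := inferInstanceAs (QuasiCompact (pullback.snd G.hom f0))
  obtain ⟨Q, iQ, q, hq, hqa, hQ1, hQ2, hQ3⟩ := exists_hom_perfect (PerfectClosure K p) (Red.bc f0 G)
  have i1 : ∀ i, CompactSpace (D.obj i) := fun i => inferInstanceAs (CompactSpace (Spec (CommRingCat.of K)))
  have i2 : ∀ i, QuasiSeparatedSpace (D.obj i) :=
    fun i => inferInstanceAs (QuasiSeparatedSpace (Spec (CommRingCat.of K)))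
  have i3 : ∀ i, Surjective (c.π.app i) := fun i => (hfl _).1
  have i4 : ∀ i, Flat (c.π.app i) := fun i => (hfl _).2.1
  have i5 : ∀ i, QuasiCompact (c.π.app i) := fun i => (hfl _).2.2
  have a1 : LocallyOfFinitePresentation G.hom := inferInstance
  have a3 : IsLocallyNoetherian G.left := LocallyOfFiniteType.isLocallyNoetherian G.hom
  have a2 : QuasiSeparated G.hom := inferInstance
  obtain ⟨i, g, B, iB, v, hv, hva, hB1, hB2, hB3⟩ := @exists_level _ _ _ D c hc _ i1 i2 i3 i4 i5 (ix 0) G iG a1 iqc a2
    Q iQ q hq hqa hQ1 hQ2 hQ3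
  exact finish p (i.unop.down - (0 : ℕ)) G B (iB := iB) v hB1 hB2 hB3 hv hva

/-- **Main result.** -/
theorem exists_hom [IsCommMonObj G] [Smooth G.hom] [QuasiCompact G.hom] [ConnectedSpace G.left] :
    ∃ (B : Over (Spec (CommRingCat.of K))) (_ : GrpObj B) (π : G ⟶ B), IsMonHom π ∧ IsAffineHom π.left ∧
      IsProper B.hom ∧ GeometricallyIntegral B.hom := by
  obtain ⟨B, iB, π, h1, h2, h3, h4, h5⟩ : ∃ (B : Over (Spec (CommRingCat.of K))) (_ : GrpObj B) (π : G ⟶ B),
      IsMonHom π ∧ IsAffineHom π.left ∧ IsProper B.hom ∧ Smooth B.hom ∧ ConnectedSpace B.left := by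
    obtain ⟨p, hp⟩ := CharP.exists K
    rcases CharP.char_is_prime_or_zero K p with hp' | rfl
    · have : Fact p.Prime := ⟨hp'⟩
      exact exists_hom_charP K G p
    · have : CharZero K := CharP.charP_to_charZero K
      exact exists_hom_perfect K G
  exact ⟨B, iB, π, h1, h2, h3, Groth.Agent.Sga3.H780.Pointed.geometricallyIntegral B⟩

end Field

end K362.AbQuot
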