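import Groth.Agent.Neron.K362.AmpMulti
import Groth.Agent.Neron.K362.AbQuot
import Groth.Agent.Grpsch.MulFin
import Groth.Agent.Sga5.AmpleFib
import Groth.Agent.Sga7.H331.CoverAmple
import Groth.Agent.Sga7.H516.NeronNeutral

/-!
# Ample modules on commutative Néron models over a strictly henselian discrete valuation ring

`exists_isAmple`: `J` a smooth separated geometrically irreducible commutative group scheme of finite type over a field
`K`, `K'/K` the fraction field of a strictly henselian discrete valuation ring `R'`, `N` a smooth separated commutative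
group scheme of finite type over `R'` with generic fibre `J_K'`.  There are ample modules on `J` and on `N` with the same
restriction to `J_K'`.
-/

set_option autoImplicit false
universe u

open CategoryTheory Limits MonoidalCategory CartesianMonoidalCategory AlgebraicGeometry TopologicalSpace
open scoped MonObj
open Groth.Agent.Fdesc.LocGen Groth.Agent.Grpsch.PicGrp

namespace K362.AmpSH

open Groth.Agent.Grpsch.Cube Groth.Agent.Sga7.H260.Ext

section Field

variable {K : Type u} [Field K] {G B : Over (Spec (CommRingCat.of K))} [GrpObj G] [GrpObj B] [IsProper B.hom]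
  [GeometricallyIntegral B.hom]

/-- The theorem of the square for a class pulled back from an abelian variety. -/
theorem square (π : G ⟶ B) [IsMonHom π] (L : Pic B.left) (a b : 𝟙_ _ ⟶ G) :
    pl ((toUnit _ ≫ (a * b)) * 𝟙 G) (pl π L) * pl π L =
      pl ((toUnit _ ≫ a) * 𝟙 G) (pl π L) * pl ((toUnit _ ≫ b) * 𝟙 G) (pl π L) := by
  have h := cube L (toUnit G ≫ a ≫ π) (toUnit G ≫ b ≫ π) π
  have h1 : (toUnit G ≫ a ≫ π) * (toUnit G ≫ b ≫ π) = toUnit G ≫ (a * b) ≫ π := by
    rw [← MonObj.comp_mul, MonObj.mul_comp]
  rw [h1, Groth.Agent.Sga7.H260.Square.pl_const, Groth.Agent.Sga7.H260.Square.pl_const,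
    Groth.Agent.Sga7.H260.Square.pl_const, mul_one, mul_one, one_mul] at h
  have key : ∀ c : 𝟙_ _ ⟶ G, pl ((toUnit _ ≫ c) * 𝟙 G) (pl π L) = pl ((toUnit G ≫ c ≫ π) * π) L := by
    intro c
    rw [← pl_comp, MonObj.mul_comp, Category.id_comp, Category.assoc]
  rw [key, key, key, h]

end Field

section Main

variable {R' K K' : Type u} [CommRing R'] [IsDomain R'] [IsDiscreteValuationRing R']
  [Field K] [Field K'] [Algebra R' K'] [IsFractionRing R' K'] [Algebra K K']

theorem exists_isAmple [HenselianLocalRing R'] [IsSepClosed (IsLocalRing.ResidueField R')]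
    (J : Over (Spec (CommRingCat.of K))) [GrpObj J] [IsCommMonObj J] [Smooth J.hom] [QuasiCompact J.hom]
    [GeometricallyIrreducible J.hom]
    (N : Over (Spec (CommRingCat.of R'))) [GrpObj N] [IsCommMonObj N] [Smooth N.hom] [IsSeparated N.hom]
    [QuasiCompact N.hom]
    (e : (SGA7.genFib R' K').obj N ≅ Red.bc (Spec.map (CommRingCat.ofHom (algebraMap K K'))) J) [IsMonHom e.hom] :
    ∃ (LA : J.left.Modules) (L' : N.left.Modules), CohB1.IsAmple LA ∧ CohB1.IsAmple L' ∧
      Nonempty ((Scheme.Modules.pullback (Groth.Agent.Sga7.H516.NeronNeutral.genι K' e)).obj L' ≅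
        (Scheme.Modules.pullback (pullback.fst J.hom (Spec.map (CommRingCat.ofHom (algebraMap K K'))))).obj LA) := by
  let s := Spec.map (CommRingCat.ofHom (algebraMap K K'))
  have hirr : IrreducibleSpace J.left := GeometricallyIrreducible.irreducibleSpace_of_subsingleton J.hom
  obtain ⟨B, iB, π, hπ, hπa, hB, hBi⟩ := K362.AbQuot.exists_hom K J
  obtain ⟨M, hM⟩ : ∃ M : B.left.Modules, CohB1.IsAmple M := by
    obtain ⟨M, hM, -⟩ := Groth.Agent.Grpsch.MulFin.exists_symm_ample B
    exact ⟨M, hM⟩
  have hLA : CohB1.IsAmple ((Scheme.Modules.pullback π.left).obj M) :=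
    Groth.Agent.Sga5.AmpleFib.isAmple_pullback _ hM
  have hsa : IsAffineHom s := isAffineHom_of_isAffine _
  have haff : IsAffineHom (pullback.fst J.hom s) :=
    MorphismProperty.pullback_fst (P := @IsAffineHom) _ _ hsa
  have hei : IsIso e.hom.left := inferInstanceAs (IsIso ((Over.forget _).map e.hom))
  -- the generic fibre
  have hgi : GeometricallyIrreducible ((SGA7.genFib R' K').obj N).hom := by
    rw [← Over.w e.hom]
    have h9 : GeometricallyIrreducible (Red.bc s J).hom :=
      MorphismProperty.pullback_snd (P := @GeometricallyIrreducible) _ _ inferInstance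
    exact (MorphismProperty.cancel_left_of_respectsIso @GeometricallyIrreducible _ _).2 h9
  let ψ : (SGA7.genFib R' K').obj N ⟶ (Over.pullback s).obj B := e.hom ≫ (Over.pullback s).map π
  have hψ : IsMonHom ψ := inferInstanceAs (IsMonHom (e.hom ≫ (Over.pullback s).map π))
  let f : ((SGA7.genFib R' K').obj N).left ⟶ B.left := e.hom.left ≫ pullback.fst J.hom s ≫ π.left
  have hfa : IsAffineHom f := inferInstance
  have hf : f = ψ.left ≫ pullback.fst B.hom s := by
    change e.hom.left ≫ pullback.fst J.hom s ≫ π.left = (e.hom.left ≫ ((Over.pullback s).map π).left) ≫ pullback.fst B.hom s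
    rw [Category.assoc]
    congr 1
    exact (pullback.lift_fst _ _ _).symm
  have hM' : CohB1.IsAmple ((Scheme.Modules.pullback f).obj M) := Groth.Agent.Sga5.AmpleFib.isAmple_pullback _ hM
  have hmk : mk ((Scheme.Modules.pullback f).obj M) hM'.1 = pl ψ (pull (pullback.fst B.hom s) (mk M hM.1)) := by
    rw [pl, ← pull_comp, ← hf, pull_mk]
  have hBp : IsProper ((Over.pullback s).obj B).hom := inferInstanceAs (IsProper (pullback.snd B.hom s))
  have hBg : GeometricallyIntegral ((Over.pullback s).obj B).hom := inferInstanceAs (GeometricallyIntegral (pullback.snd B.hom s))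
  obtain ⟨n, hn, L, hL, ⟨θ⟩⟩ := K362.AmpMulti.exists_isAmple R' K' N ((Scheme.Modules.pullback f).obj M) hM'
    (fun a b => by rw [hmk]; exact square ψ _ a b)
  refine ⟨CohB1.tensorPow ((Scheme.Modules.pullback π.left).obj M) n, L,
    Groth.Agent.Divis.NormAmple.isAmple_tensorPow hLA hn, hL, ?_⟩
  rw [← mk_eq_iff (isInvertible_pullback _ hL.1) (isInvertible_pullback _ (isInvertible_tensorPow hLA.1 n)),
    ← pull_mk _ hL.1, ← pull_mk _ (isInvertible_tensorPow hLA.1 n), mk_tensorPow hLA.1, map_pow,
    Groth.Agent.Sga7.H516.NeronNeutral.genι, pull_comp, ← pull_mk _ hM.1]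
  have h1 : pull (genProj R' K' N) (mk L hL.1) = pull f (mk M hM.1) ^ n := by
    rw [pull_mk, pull_mk, ← mk_tensorPow hM'.1]
    exact mk_congr θ
  change pull e.inv.left (pull (genProj R' K' N) (mk L hL.1)) = _
  rw [h1, map_pow, ← pull_comp, ← pull_comp]
  have h2 : e.inv.left ≫ f = pullback.fst J.hom s ≫ π.left := by
    have h3 : e.inv.left ≫ e.hom.left = 𝟙 _ := congrArg (fun t => t.left) e.inv_hom_id
    change e.inv.left ≫ e.hom.left ≫ pullback.fst J.hom s ≫ π.left = _
    rw [reassoc_of% h3]
  rw [h2]

omit [IsDomain R'] [IsDiscreteValuationRing R'] [IsFractionRing R' K'] in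
/-- Commutativity of a Néron model. -/
theorem isCommMonObj_of_isNeron (N : Over (Spec (CommRingCat.of R'))) [GrpObj N] (hN : SGA7.IsNeron R' K' N)
    [IsCommMonObj ((SGA7.genFib R' K').obj N)] : IsCommMonObj N where
  mul_comm := by
    have hs : Smooth N.hom := hN.1
    have hs2 : Smooth (N ⊗ N).hom := by
      rw [Over.tensorObj_hom]
      infer_instance
    have key : fst N N * snd N N = snd N N * fst N N := by
      apply (hN.2.2.2 (N ⊗ N) hs2).1
      change (SGA7.genFib R' K').map _ = (SGA7.genFib R' K').map _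
      have e : ∀ x y : N ⊗ N ⟶ N, (SGA7.genFib R' K').map (x * y) =
          (SGA7.genFib R' K').map x * (SGA7.genFib R' K').map y := fun x y =>
        CategoryTheory.Functor.map_mul (SGA7.genFib R' K') x y
      rw [e, e]
      exact mul_comm _ _
    have h1 : μ[N] = fst N N * snd N N := by
      rw [Hom.mul_def, lift_fst_snd, Category.id_comp]
    rw [h1, MonObj.comp_mul, braiding_hom_fst, braiding_hom_snd, key]

/-- The same for Néron models over a strict henselization. -/
theorem exists_isAmple_neron {R : Type u} [CommRing R] [IsDomain R] [IsDiscreteValuationRing R] [Algebra R R']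
    [IsLocalHom (algebraMap R R')] [hsh : Hensel.IsStrictHenselization R R']
    (J : Over (Spec (CommRingCat.of K))) [GrpObj J] [IsCommMonObj J] [Smooth J.hom] [QuasiCompact J.hom]
    [GeometricallyIrreducible J.hom]
    (N : Over (Spec (CommRingCat.of R'))) [GrpObj N] (hN : SGA7.IsNeron R' K' N)
    (e : (SGA7.genFib R' K').obj N ≅ Red.bc (Spec.map (CommRingCat.ofHom (algebraMap K K'))) J) [IsMonHom e.hom] :
    ∃ (LA : J.left.Modules) (L' : N.left.Modules), CohB1.IsAmple LA ∧ CohB1.IsAmple L' ∧
      Nonempty ((Scheme.Modules.pullback (Groth.Agent.Sga7.H516.NeronNeutral.genι K' e)).obj L' ≅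
        (Scheme.Modules.pullback (pullback.fst J.hom (Spec.map (CommRingCat.ofHom (algebraMap K K'))))).obj LA) := by
  have hh : HenselianLocalRing R' := hsh.henselian
  have hsep : IsSepClosed (IsLocalRing.ResidueField R') := hsh.isSepClosure.sep_closed
  have hs : Smooth N.hom := hN.1
  have hs1 : IsSeparated N.hom := hN.2.1
  have hs2 : QuasiCompact N.hom := hN.2.2.1
  have hcJ : IsCommMonObj (Red.bc (Spec.map (CommRingCat.ofHom (algebraMap K K'))) J) := inferInstance
  have hc1 : IsCommMonObj ((SGA7.genFib R' K').obj N) := {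
    mul_comm := by
      rw [← cancel_mono e.hom, Category.assoc, IsMonHom.mul_hom, ← BraidedCategory.braiding_naturality_assoc,
        IsCommMonObj.mul_comm] }
  have hc : IsCommMonObj N := isCommMonObj_of_isNeron N hN
  exact exists_isAmple J N e

end Main

end K362.AmpSH
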