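import Groth.Agent.Neron.K362.DivO
import Groth.Agent.S0217

/-!
# An affine open meeting every component of `V(π)`

* `exists_affine`: on a separated Noetherian scheme, if `π` generates prime ideals in the local rings outside `D(π)`
  and the components of `V(π)` are irreducible, relatively open and finite in number, some affine open meets all of
  them.
-/

set_option autoImplicit false
universe u

open CategoryTheory CategoryTheory.Limits AlgebraicGeometry Opposite TopologicalSpace

namespace K362.AffV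

open Groth.Agent.Fdesc.LocGen Groth.Agent.Fga.GenIso Groth.Agent.Sga7.H260.Div K362.DivO

variable {X : Scheme.{u}} {π : Γ(X, ⊤)}

/-- The generic point of a component. -/
theorem exists_generic (hgood : Good X π) (y : X) (hy : y ∉ X.basicOpen π) :
    ∃ η : X, η ∈ cmp π y ∧ closure {η} = cmp π y := by
  have h1 : IsClosed (cmp π y) := by
    have hc : IsClosed ((X.basicOpen π : Set X)ᶜ) := (X.basicOpen π).2.isClosed_compl
    change IsClosed (connectedComponentIn ((X.basicOpen π : Set X)ᶜ) y)
    rw [connectedComponentIn_eq_image (show y ∈ ((X.basicOpen π : Set X)ᶜ) from hy)]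
    exact hc.isClosedEmbedding_subtypeVal.isClosedMap _ isClosed_connectedComponent
  have h2 : IsIrreducible (cmp π y) := ⟨⟨y, mem_cmp hy⟩, (hgood y hy).1⟩
  obtain ⟨η, hη⟩ := QuasiSober.sober h2 h1
  exact ⟨η, hη.mem, hη⟩

/-- The local ring at a generic point of a component of `V(π)` has dimension at most one. -/
theorem ringKrullDim_le [IsLocallyNoetherian X] (hgood : Good X π) (y η : X) (hy : y ∉ X.basicOpen π)
    (hη : η ∈ cmp π y) (hηc : closure {η} = cmp π y) : ringKrullDim (X.presheaf.stalk η) ≤ 1 := by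
  obtain ⟨-, O, hO⟩ := hgood y hy
  have hηO : η ∈ O := (hO.ge hη).1
  have hηD : η ∉ X.basicOpen π := cmp_subset hη
  have key : ∀ q : PrimeSpectrum (X.presheaf.stalk η), gp π η ∈ q.asIdeal → q = IsLocalRing.closedPoint _ := by
    intro q hq
    have h1 : X.fromSpecStalk η q ∉ X.basicOpen π := by
      rw [Groth.Agent.Ega4dA.ParaSmooth.fromSpecStalk_mem_basicOpen q (show η ∈ (⊤ : X.Opens) from trivial), not_not]
      exact hq
    have h2 : X.fromSpecStalk η q ⤳ η := by
      have := (Scheme.range_fromSpecStalk (X := X) (x := η)).le ⟨q, rfl⟩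
      exact this
    have h3 : X.fromSpecStalk η q ∈ O := h2.mem_open O.2 hηO
    have h4 : X.fromSpecStalk η q ∈ cmp π y := hO.le ⟨h3, h1⟩
    rw [← hηc] at h4
    have h5 : η ⤳ X.fromSpecStalk η q := specializes_iff_mem_closure.mpr h4
    have h6 : X.fromSpecStalk η q = η := (h2.antisymm h5).eq
    apply (X.fromSpecStalk η).isEmbedding.injective
    rw [Scheme.fromSpecStalk_closedPoint]
    exact h6
  have h1 : IsLocalRing.maximalIdeal (X.presheaf.stalk η) ∈ (Ideal.span {gp π η}).minimalPrimes := by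
    refine ⟨⟨inferInstance, ?_⟩, fun J ⟨hJ, hJm⟩ _ => ?_⟩
    · rw [Ideal.span_le, Set.singleton_subset_iff]
      change gp π η ∈ IsLocalRing.maximalIdeal _
      rw [IsLocalRing.mem_maximalIdeal]
      intro hu
      exact hηD ((mem_basicOpen_iff_ge _ π).mpr hu)
    · have h2 := key ⟨J, hJ⟩ (hJm (Ideal.mem_span_singleton_self _))
      have h3 : J = IsLocalRing.maximalIdeal _ := congrArg PrimeSpectrum.asIdeal h2
      exact h3.ge
  have : (Ideal.span {gp π η}).IsPrincipal := ⟨⟨_, rfl⟩⟩
  have h2 := Ideal.height_le_one_of_isPrincipal_of_mem_minimalPrimes _ _ h1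
  rw [← IsLocalRing.maximalIdeal_height_eq_ringKrullDim]
  exact_mod_cast h2

theorem exists_affine [IsNoetherian X] [X.IsSeparated] (hgood : Good X π)
    (hfin : (Set.range fun y : {y : X // y ∉ X.basicOpen π} => cmp π y.1).Finite) :
    ∃ V : X.Opens, IsAffineOpen V ∧ ∀ y : X, y ∉ X.basicOpen π → ∃ z ∈ cmp π y, z ∈ V := by
  classical
  rcases isEmpty_or_nonempty X with hX | hX
  · exact ⟨⊥, isAffineOpen_bot X, fun y => (hX.false y).elim⟩
  have key : ∀ C : Set X, ∃ η : X, ∀ y : X, y ∉ X.basicOpen π → cmp π y = C → η ∈ C ∧ closure {η} = C := by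
    intro C
    by_cases hC : ∃ y : X, y ∉ X.basicOpen π ∧ cmp π y = C
    · obtain ⟨y, hy, rfl⟩ := hC
      obtain ⟨η, h⟩ := exists_generic hgood y hy
      exact ⟨η, fun _ _ _ => h⟩
    · exact ⟨hX.some, fun y hy hyC => absurd ⟨y, hy, hyC⟩ hC⟩
  choose η hη using key
  obtain ⟨V, hV, hV'⟩ := Groth.Agent.S0217.result X (fun U _ =>
    TopologicalSpace.NoetherianSpace.finite_irreducibleComponents) (hfin.toFinset.image η) (by
      intro x hx
      rw [Finset.mem_image] at hx
      obtain ⟨C, hC, rfl⟩ := hx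
      rw [Set.Finite.mem_toFinset] at hC
      obtain ⟨⟨y, hy⟩, rfl⟩ := hC
      have h1 := hη _ y hy rfl
      exact ⟨inferInstance, ringKrullDim_le hgood y _ hy h1.1 h1.2⟩)
  refine ⟨V, hV, fun y hy => ⟨η (cmp π y), (hη _ y hy rfl).1, hV' _ ?_⟩⟩
  rw [Finset.mem_image]
  exact ⟨cmp π y, hfin.mem_toFinset.mpr ⟨⟨y, hy⟩, rfl⟩, rfl⟩

end K362.AffV
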