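import Groth.Agent.Neron.K362.VertGrp
import Groth.Agent.Sga7.H260.Amp
import Groth.Agent.Sga7.H751.SecRoot
import Groth.Agent.Sga7.H516.Neutral

/-!
# Components of the special fibre and translations by sections

`R` a strictly henselian discrete valuation ring, `G` a smooth group scheme of finite type over `R`, `π` the function
on `G` given by a uniformizer.

* `exists_secComp`: the components of `V(π)` are the components met by sections.
* `good`: they are irreducible and relatively open.
* `finite_cmpSet`: there are finitely many.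
* `cmp_tr`: translations by sections through the unit component preserve them.
* `exists_section`: for `U` meeting every component and `x` in the special fibre there is a section `a` through the
  unit component with `a x`, `a⁻¹ x` in `U`.
-/

set_option autoImplicit false
universe u

open CategoryTheory Limits MonoidalCategory CartesianMonoidalCategory AlgebraicGeometry TopologicalSpace
open scoped MonObj

namespace K362.SecGeo

open Groth.Agent.Sga7.H260.Ext Groth.Agent.Sga7.H260.Cover Groth.Agent.Sga7.H750.SecComp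
  Groth.Agent.Sga7.H751.SecRoot K362.DivO K362.VertGrp

variable {R : Type u} [CommRing R] [IsDomain R] [IsDiscreteValuationRing R]
variable (G : Over (Spec (CommRingCat.of R)))

/-- The uniformizer as a function on `G`. -/
noncomputable abbrev pie (ϖ : R) : Γ(G.left, ⊤) := Groth.Agent.Fga.DVRGeom.scal G.hom ϖ

variable {ϖ : R} (hϖ : Irreducible ϖ)

include hϖ in
theorem compl_eq : ((G.left.basicOpen (pie G ϖ) : Set G.left))ᶜ = SGA7.specialFibreSet R G := by
  ext y
  exact Groth.Agent.Fga.DVRGeom.notMem_basicOpen_iff G.hom hϖ y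

include hϖ in
theorem cmp_eq_connectedComponentIn (y : G.left) :
    cmp (pie G ϖ) y = connectedComponentIn (SGA7.specialFibreSet R G) y := by
  rw [← compl_eq G hϖ]

include hϖ in
theorem notMem_iff (y : G.left) : y ∉ G.left.basicOpen (pie G ϖ) ↔ y ∈ SGA7.specialFibreSet R G := by
  rw [← compl_eq G hϖ]
  rfl

section Sm

variable [Smooth G.hom] [QuasiCompact G.hom] [HenselianLocalRing R] [IsSepClosed (IsLocalRing.ResidueField R)]

include hϖ in
theorem exists_secComp (y : G.left) (hy : y ∉ G.left.basicOpen (pie G ϖ)) :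
    ∃ b : 𝟙_ (Over (Spec (CommRingCat.of R))) ⟶ G, cmp (pie G ϖ) y = SGA7.secComp R G b := by
  obtain ⟨b, hb⟩ := exists_section_mem_secComp G ⟨inferInstance, inferInstance⟩ y ((notMem_iff G hϖ y).mp hy)
  refine ⟨b, ?_⟩
  rw [cmp_eq_connectedComponentIn G hϖ]
  exact (connectedComponentIn_eq hb).symm

include hϖ in
theorem finite_cmpSet : Finite (cmpSet (pie G ϖ)) := by
  refine Set.Finite.subset (finite_range_secComp G) ?_
  rintro _ ⟨⟨y, hy⟩, rfl⟩
  obtain ⟨b, hb⟩ := exists_secComp G hϖ y hy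
  exact ⟨b, hb.symm⟩

variable [GrpObj G]

omit [HenselianLocalRing R] [IsSepClosed (IsLocalRing.ResidueField R)] in
include hϖ in
theorem good : Good G.left (pie G ϖ) := by
  intro y hy
  have hy' := (notMem_iff G hϖ y).mp hy
  rw [compl_eq G hϖ]
  refine ⟨isPreirreducible_connectedComponentIn G y hy', ?_⟩
  have := noetherianSpace G
  obtain ⟨O, hO, h⟩ := exists_isOpen_inter_eq (SGA7.specialFibreSet R G) hy'
  exact ⟨⟨O, hO⟩, h⟩

omit [IsDomain R] [IsDiscreteValuationRing R] [Smooth G.hom] [QuasiCompact G.hom]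
  [IsSepClosed (IsLocalRing.ResidueField R)] in
/-- Translations by sections through the unit component preserve the components. -/
theorem secComp_tr [IsCommMonObj G] {a : 𝟙_ (Over (Spec (CommRingCat.of R))) ⟶ G}
    (ha : a ∈ SGA7.secUnitComp R G) (b : 𝟙_ (Over (Spec (CommRingCat.of R))) ⟶ G) :
    SGA7.secComp R G (a * b) = SGA7.secComp R G b := by
  rw [mem_secUnitComp_iff] at ha
  have h1 := (secComp_mul_right_eq_iff G a 1 b).mpr ha
  rwa [one_mul] at h1

omit [IsDomain R] [IsDiscreteValuationRing R] [Smooth G.hom] [QuasiCompact G.hom]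
  [IsSepClosed (IsLocalRing.ResidueField R)] in
theorem image_tr (a b : 𝟙_ (Over (Spec (CommRingCat.of R))) ⟶ G) :
    (tr a).left '' SGA7.secComp R G b = SGA7.secComp R G (a * b) := by
  have h1 := image_secComp G (trIso a) b
  have h2 : b ≫ (trIso a).hom = a * b := by
    rw [trIso_hom, comp_tr, toUnit_unique (toUnit (𝟙_ _)) (𝟙 _), Category.id_comp]
  rw [h2] at h1
  exact h1

include hϖ in
theorem cmp_tr [IsCommMonObj G] {a : 𝟙_ (Over (Spec (CommRingCat.of R))) ⟶ G}
    (ha : a ∈ SGA7.secUnitComp R G) (y : G.left) (hy : y ∉ G.left.basicOpen (pie G ϖ)) :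
    cmp (pie G ϖ) ((tr a).left y) = cmp (pie G ϖ) y := by
  obtain ⟨b, hb⟩ := exists_secComp G hϖ y hy
  have h1 : (tr a).left y ∈ cmp (pie G ϖ) y := by
    rw [hb, ← secComp_tr G ha b, ← image_tr]
    exact ⟨y, by rw [← hb]; exact mem_cmp hy, rfl⟩
  exact cmp_eq h1

omit [IsDomain R] [IsDiscreteValuationRing R] [Smooth G.hom] [QuasiCompact G.hom] [HenselianLocalRing R]
  [IsSepClosed (IsLocalRing.ResidueField R)] in
theorem appTop_tr (a : 𝟙_ (Over (Spec (CommRingCat.of R))) ⟶ G) :
    (tr a).left.appTop (pie G ϖ) = pie G ϖ := by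
  have h1 : (tr a).left ≫ G.hom = G.hom := Over.w (tr a)
  have h2 := congr(Scheme.Hom.appTop $h1 ((Scheme.ΓSpecIso (CommRingCat.of R)).inv ϖ))
  rw [Scheme.Hom.comp_appTop] at h2
  exact h2

include hϖ in
/-- For `U` meeting every component and `x` in the special fibre there is a section `a` through the unit component
with `a x`, `a⁻¹ x` in `U`. -/
theorem exists_section [IsCommMonObj G] [IsSeparated G.hom] (U : G.left.Opens)
    (hU : ∀ y : G.left, y ∉ G.left.basicOpen (pie G ϖ) → ∃ z ∈ cmp (pie G ϖ) y, z ∈ U)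
    (x : G.left) (hx : x ∉ G.left.basicOpen (pie G ϖ)) :
    ∃ a ∈ SGA7.secUnitComp R G, (tr a).left x ∈ U ∧ (tr a⁻¹).left x ∈ U := by
  obtain ⟨G₀, _, i, hi, hio, hir, g1, g2, g3, g4⟩ := Groth.Agent.Sga7.H516.Neutral.exists_neutral G
  obtain ⟨b, hb⟩ := exists_secComp G hϖ x hx
  -- the unit component of the special fibre is contained in `G₀`
  have hC : SGA7.secComp R G 1 ⊆ Set.range i.left := by
    rw [hir]
    intro z hz
    refine Set.mem_iUnion.mpr ⟨IsLocalRing.closedPoint R, ?_⟩
    have h1 : (1 : 𝟙_ (Over (Spec (CommRingCat.of R))) ⟶ G) = η[G] := by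
      rw [Hom.one_def, toUnit_unique (toUnit (𝟙_ _)) (𝟙 _), Category.id_comp]
    rw [h1] at hz
    exact hz
  have hpre : ∀ z : G.left, z ∈ SGA7.secComp R G b →
      ∃ g : G₀.left, i.left g = (tr b⁻¹).left z ∧ g ∈ SGA7.specialFibreSet R G₀ := by
    intro z hz
    have h1 : (tr b⁻¹).left z ∈ SGA7.secComp R G 1 := by
      have h2 := image_tr G b⁻¹ b
      rw [inv_mul_cancel] at h2
      rw [← h2]
      exact ⟨z, hz, rfl⟩
    obtain ⟨g, hg⟩ := hC h1
    refine ⟨g, hg, ?_⟩
    have h2 : G₀.hom g = G.hom (i.left g) := by rw [← Scheme.Hom.comp_apply, Over.w i]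
    change G₀.hom g = _
    rw [h2, hg]
    have h3 : (tr b⁻¹).left z ∈ SGA7.specialFibreSet R G := connectedComponentIn_subset _ _ h1
    exact h3
  let U' : G₀.left.Opens := i.left ⁻¹ᵁ ((tr b).left ⁻¹ᵁ U)
  have hcan : ∀ z : G.left, (tr b).left ((tr b⁻¹).left z) = z := by
    intro z
    rw [← Scheme.Hom.comp_apply, ← Over.comp_left, tr_comp_tr, mul_inv_cancel, tr_one]
    rfl
  have hU' : ∃ z ∈ U', z ∈ SGA7.specialFibreSet R G₀ := by
    obtain ⟨z, hz, hzU⟩ := hU x hx
    rw [hb] at hz
    obtain ⟨g, hg, hg'⟩ := hpre z hz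
    refine ⟨g, ?_, hg'⟩
    change (tr b).left (i.left g) ∈ U
    rw [hg, hcan]
    exact hzU
  obtain ⟨g, hg, hg'⟩ := hpre x (by rw [← hb]; exact mem_cmp hx)
  have hcomm : IsCommMonObj G₀ := by
    have : Mono i := by
      have : Mono i.left := inferInstance
      exact (Over.forget _).mono_of_mono_map this
    exact { mul_comm := by
              rw [← cancel_mono i, Category.assoc, IsMonHom.mul_hom, ← Category.assoc,
                ← BraidedCategory.braiding_naturality, Category.assoc, IsCommMonObj.mul_comm] }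
  obtain ⟨a₀, ha₀, ha₀'⟩ := Groth.Agent.Sga7.H260.Cover.exists_section G₀ (g4 _) U' hU' g hg'
  have htr : ∀ c : 𝟙_ (Over (Spec (CommRingCat.of R))) ⟶ G₀, ∀ w : G₀.left,
      i.left ((tr c).left w) = (tr (c ≫ i)).left (i.left w) := by
    intro c w
    have h1 : tr c ≫ i = i ≫ tr (c ≫ i) := by
      rw [comp_tr, tr, MonObj.mul_comp, Category.id_comp, Category.assoc]
    rw [← Scheme.Hom.comp_apply, ← Over.comp_left, h1]
    rfl
  have hfin : ∀ c : 𝟙_ (Over (Spec (CommRingCat.of R))) ⟶ G₀, (tr c).left g ∈ U' → (tr (c ≫ i)).left x ∈ U := by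
    intro c hc
    have h1 : (tr b).left (i.left ((tr c).left g)) ∈ U := hc
    rw [htr, hg] at h1
    rw [← Scheme.Hom.comp_apply, ← Scheme.Hom.comp_apply, ← Over.comp_left, ← Over.comp_left, tr_comp_tr,
      tr_comp_tr] at h1
    have h2 : b * ((c ≫ i) * b⁻¹) = c ≫ i := by
      have h3 : (c ≫ i) * b⁻¹ = b⁻¹ * (c ≫ i) := _root_.mul_comm _ _
      rw [h3, mul_inv_cancel_left]
    have h4 : b * (c ≫ i) * b⁻¹ = c ≫ i := by rw [_root_.mul_assoc]; exact h2
    first
      | rw [h2] at h1; exact h1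
      | rw [h4] at h1; exact h1
  refine ⟨a₀ ≫ i, ?_, hfin _ ha₀, ?_⟩
  · -- `a₀ ≫ i` goes through the unit component
    have h1 : _root_.IsPreconnected (i.left '' SGA7.specialFibreSet R G₀) :=
      (g4 _).isPreirreducible.isPreconnected.image _ i.left.continuous.continuousOn
    have h2 : i.left '' SGA7.specialFibreSet R G₀ ⊆ SGA7.specialFibreSet R G := by
      rintro _ ⟨w, hw, rfl⟩
      have h3 : G₀.hom w = G.hom (i.left w) := by rw [← Scheme.Hom.comp_apply, Over.w i]
      change G.hom (i.left w) = _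
      rw [← h3]
      exact hw
    have h3 : η[G].left (IsLocalRing.closedPoint R) ∈ i.left '' SGA7.specialFibreSet R G₀ := by
      refine ⟨η[G₀].left (IsLocalRing.closedPoint R), section_mem_specialFibreSet G₀ _, ?_⟩
      have h5 : η[G₀] ≫ i = η[G] := IsMonHom.one_hom i
      exact (Scheme.Hom.comp_apply ..).symm.trans (congrArg (fun f : 𝟙_ _ ⟶ G => f.left (IsLocalRing.closedPoint R)) h5)
    have h4 := h1.subset_connectedComponentIn h3 h2
    exact h4 ⟨a₀.left (IsLocalRing.closedPoint R), section_mem_specialFibreSet G₀ _,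
      (Scheme.Hom.comp_apply ..).symm⟩
  · have h1 := hfin _ ha₀'
    have h2 : a₀⁻¹ ≫ i = (a₀ ≫ i)⁻¹ := GrpObj.inv_comp _ _
    rw [h2] at h1
    exact h1

end Sm

end K362.SecGeo
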