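import Mathlib.RingTheory.Filtration
import Mathlib.RingTheory.PrincipalIdealDomain
import Mathlib.Algebra.Group.Subgroup.Basic
import Mathlib.Algebra.Module.Submodule.Map

/-!
# Divisible elements of finitely generated abelian groups are torsion

* `exists_pow_eq_one`: an element of a commutative group `V` with `ℤ`-noetherian additive version which is an
  `ℓ ^ k`-th power for all `k` is torsion.
* `exists_pow_quasi`: the abstract argument showing that `a ↦ τ_a^* c / c` is a homomorphism up to torsion.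
-/

set_option autoImplicit false

namespace K362.TorDiv

theorem exists_pow_eq_one {V : Type*} [CommGroup V] [IsNoetherian ℤ (Additive V)] (l : ℕ) (hl : 2 ≤ l) (x : V)
    (hx : ∀ k : ℕ, ∃ y : V, y ^ (l ^ k) = x) : ∃ m : ℕ, 0 < m ∧ x ^ m = 1 := by
  let I : Ideal ℤ := Ideal.span {(l : ℤ)}
  have h1 : (Additive.ofMul x) ∈ (⨅ i : ℕ, I ^ i • ⊤ : Submodule ℤ (Additive V)) := by
    rw [Submodule.mem_iInf]
    intro k
    obtain ⟨y, hy⟩ := hx k
    have h2 : ((l : ℤ) ^ k) • (Additive.ofMul y) = Additive.ofMul x := by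
      rw [← hy]
      have : ((l : ℤ) ^ k) • (Additive.ofMul y) = ((l ^ k : ℕ) : ℤ) • (Additive.ofMul y) := by push_cast; rfl
      rw [this, natCast_zsmul]
      rfl
    rw [← h2]
    exact Submodule.smul_mem_smul (Ideal.pow_mem_pow (Ideal.mem_span_singleton_self _) k) trivial
  obtain ⟨⟨r, hr⟩, hrx⟩ := (Ideal.mem_iInf_smul_pow_eq_bot_iff I _).mp h1
  have hr1 : r - 1 ≠ 0 := by
    intro h
    have h2 : r = 1 := by linarith
    rw [h2] at hr
    have h3 : (l : ℤ) ∣ 1 := Ideal.mem_span_singleton.mp hr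
    have h4 : (l : ℤ) ≤ 1 := Int.le_of_dvd one_pos h3
    omega
  refine ⟨(r - 1).natAbs, Int.natAbs_pos.mpr hr1, ?_⟩
  have h2 : (r - 1) • Additive.ofMul x = 0 := by
    rw [sub_smul, one_smul, sub_eq_zero]
    exact hrx
  have h3 : x ^ (r - 1) = 1 := h2
  rcases Int.natAbs_eq (r - 1) with h4 | h4
  · rw [h4, zpow_natCast] at h3
    exact h3
  · rw [h4, zpow_neg, zpow_natCast, inv_eq_one] at h3
    exact h3

/-- The abstract argument. -/
theorem exists_pow_quasi {P A : Type*} [CommGroup P] [CommGroup A] (T : A → P →* P)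
    (hT1 : ∀ x, T 1 x = x) (hTm : ∀ a b x, T (a * b) x = T a (T b x)) (c : P)
    (V : Subgroup P) [IsNoetherian ℤ (Additive V)] (A₀ : Subgroup A)
    (hV : ∀ a ∈ A₀, ∀ v ∈ V, T a v = v)
    (hsq : ∀ a b : A, T (a * b) c * c * (T a c * T b c)⁻¹ ∈ V)
    (l : ℕ) (hl : 2 ≤ l) (hdiv : ∀ a ∈ A₀, ∃ b ∈ A₀, b ^ l = a) (a : A) (ha : a ∈ A₀) :
    ∃ m : ℕ, 0 < m ∧ (T a c * T a⁻¹ c) ^ m = (c * c) ^ m := by
  let φ : A → P := fun a => T a c * c⁻¹
  -- the defect
  let w : A → A → P := fun a b => T (a * b) c * c * (T a c * T b c)⁻¹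
  have hw : ∀ a b, w a b = T a (φ b) * (φ b)⁻¹ := by
    intro a b
    simp only [w, φ, map_mul, map_inv, hTm, mul_inv, inv_inv]
    have : T a (T b c) * c * ((T a c)⁻¹ * (T b c)⁻¹) = T a (T b c) * (T a c)⁻¹ * ((T b c)⁻¹ * c) := by
      simp only [mul_assoc, mul_left_comm, mul_comm]
    exact this
  have hmul : ∀ (b : A) (a a' : A), a ∈ A₀ → w (a * a') b = w a b * w a' b := by
    intro b a a' ha
    have h1 : T a (w a' b) = w a' b := hV a ha _ (hsq a' b)
    have h2 : T a' (φ b) = w a' b * φ b := by rw [hw, inv_mul_cancel_right]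
    rw [hw (a * a') b, hTm, h2, map_mul, h1, hw a b]
    simp only [mul_assoc, mul_left_comm, mul_comm]
  have hpow : ∀ (b a : A), a ∈ A₀ → ∀ n : ℕ, w (a ^ (n + 1)) b = w a b ^ (n + 1) := by
    intro b a ha n
    induction n with
    | zero => simp
    | succ n ih => rw [pow_succ' a, hmul b a _ ha, ih, ← pow_succ' (w a b)]
  have hdiv' : ∀ k : ℕ, ∀ a ∈ A₀, ∃ b ∈ A₀, b ^ (l ^ k) = a := by
    intro k
    induction k with
    | zero => exact fun a ha => ⟨a, ha, by simp⟩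
    | succ k ih =>
      intro a ha
      obtain ⟨b, hb, rfl⟩ := hdiv a ha
      obtain ⟨b', hb', rfl⟩ := ih b hb
      exact ⟨b', hb', by rw [← pow_mul, pow_succ]⟩
  obtain ⟨m, hm, h⟩ := exists_pow_eq_one (V := V) l hl ⟨w a a⁻¹, hsq a a⁻¹⟩ (fun k => by
    obtain ⟨b, hb, hba⟩ := hdiv' k a ha
    refine ⟨⟨w b a⁻¹, hsq b a⁻¹⟩, Subtype.ext ?_⟩
    have h1 : 0 < l ^ k := by positivity
    obtain ⟨n, hn⟩ := Nat.exists_eq_succ_of_ne_zero h1.ne'
    have h2 := hpow a⁻¹ b hb n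
    rw [← Nat.succ_eq_add_one, ← hn, hba] at h2
    exact h2.symm)
  refine ⟨m, hm, ?_⟩
  have h1 : w a a⁻¹ ^ m = 1 := congrArg Subtype.val h
  have h2 : w a a⁻¹ = c * c * (T a c * T a⁻¹ c)⁻¹ := by
    simp only [w, mul_inv_cancel, hT1]
  rw [h2, mul_pow, inv_pow, mul_inv_eq_one] at h1
  exact h1.symm

end K362.TorDiv
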