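import Groth.Agent.Neron.K362.AffV
import Groth.Agent.Neron.K362.SecGeo
import Groth.Agent.Neron.K362.TorDiv
import Groth.Agent.Sga7.H751.PowEtale
import Groth.Agent.Divis.NormAmple

/-!
# Ampleness on smooth commutative group schemes with several components in the special fibre

`exists_isAmple`: `R` a strictly henselian discrete valuation ring, `G` a smooth separated commutative group scheme of
finite type over `R`, `M` ample on the generic fibre and satisfying the theorem of the square.  A positive power of `M`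
extends to an ample module on `G`.
-/

set_option autoImplicit false
universe u

open CategoryTheory Limits MonoidalCategory CartesianMonoidalCategory AlgebraicGeometry TopologicalSpace
open scoped MonObj
open Groth.Agent.Fdesc.LocGen Groth.Agent.Ega2.Nv Groth.Agent.Ega2.Ample Groth.Agent.Grpsch.PicGrp

namespace K362.AmpMulti

open Groth.Agent.Sga7.H260.Ext Groth.Agent.Sga7.H260.Cover Groth.Agent.Sga7.H260.Amp Groth.Agent.Sga7.H260
  Groth.Agent.Sga7.H750.SecComp Groth.Agent.Sga7.H751.SecRoot K362.DivO K362.VertGrp K362.SecGeo K362.Twist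
  Groth.Agent.Grpsch.Cube

variable (R K : Type u) [CommRing R] [Field K] [Algebra R K] [IsDomain R] [IsDiscreteValuationRing R]
  [IsFractionRing R K]
variable (G : Over (Spec (CommRingCat.of R)))

theorem nv_pow {X : Scheme.{u}} {L : X.Modules} (hL : PicF.IsInvertible L) (t : Γ(L, ⊤)) {m : ℕ} (hm : 0 < m) :
    nv _ (Groth.Agent.Fdesc.LocGen.pow t m) = nv _ t := by
  have key : ∀ x : X, x ∈ nv _ (Groth.Agent.Fdesc.LocGen.pow t m) ↔ x ∈ nv _ t := by
    intro x
    obtain ⟨U, e, hxU, he⟩ := (isInvertible_iff L).mp hL x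
    obtain ⟨a, ha⟩ := he.exists_eq (res L (le_top : U ≤ ⊤) t)
    have h1 := nv_inf_of_eq_smul t le_top he a ha
    have h2 := nv_inf_of_eq_smul (Groth.Agent.Fdesc.LocGen.pow t m) (le_top : U ≤ ⊤) (he.pow m) (a ^ m)
      (by rw [res_pow, ha, smul_pow])
    rw [Scheme.basicOpen_pow _ _ hm, ← h1] at h2
    constructor
    · intro h
      exact (h2.le ⟨hxU, h⟩).2
    · intro h
      exact (h2.ge ⟨hxU, h⟩).2
  exact Opens.ext (Set.ext key)

/-- A good extension of a power of `M`. -/
theorem exists_twist [HenselianLocalRing R] [IsSepClosed (IsLocalRing.ResidueField R)]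
    [GrpObj G] [Smooth G.hom] [IsSeparated G.hom] [QuasiCompact G.hom]
    [GeometricallyIrreducible ((SGA7.genFib R K).obj G).hom]
    (M : ((SGA7.genFib R K).obj G).left.Modules) (hM : CohB1.IsAmple M) {ϖ : R} (hϖ : Irreducible ϖ) :
    ∃ (n : ℕ) (_ : 0 < n) (L : G.left.Modules) (_ : PicF.IsInvertible L) (s : Γ(L, ⊤)),
      IsAffineOpen (nv _ s) ∧
      (∀ y : G.left, y ∉ G.left.basicOpen (pie G ϖ) → ∃ z ∈ cmp (pie G ϖ) y, z ∈ nv _ s) ∧
      Nonempty ((Scheme.Modules.pullback (genProj R K G)).obj L ≅ CohB1.tensorPow M n) := by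
  have hD := Groth.Agent.Fga.DVRGeom.ores_tr_injective G.hom hϖ.ne_zero
  have hp := Groth.Agent.Fga.DVRGeom.isPrime_span_ge G.hom hϖ
  have hln : IsLocallyNoetherian G.left := LocallyOfFiniteType.isLocallyNoetherian G.hom
  have hcs : CompactSpace G.left := QuasiCompact.compactSpace_of_compactSpace G.hom
  have hno : IsNoetherian G.left := {}
  have hsep : G.left.IsSeparated := ⟨by
    have : IsSeparated (G.hom ≫ terminal.from _) := inferInstance
    rwa [terminal.comp_from] at this⟩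
  have hirrK : IrreducibleSpace ((SGA7.genFib R K).obj G).left :=
    GeometricallyIrreducible.irreducibleSpace_of_subsingleton ((SGA7.genFib R K).obj G).hom
  have hirrG : IrreducibleSpace G.left := irreducibleSpace R K G
  have hgood := good G hϖ
  obtain ⟨L₀, hL₀, ⟨e₀⟩⟩ := exists_extension R K G M hM.1
  have hLK' : AmpleOn L₀ (G.left.basicOpen (pie G ϖ)) := by
    rw [← opensRange_genProj R K G hϖ, ← isAmple_restrict_iff]
    exact Groth.Agent.Ega2.Weight.isAmple_of_iso
      (e₀.symm ≪≫ ((Scheme.Modules.restrictFunctorIsoPullback (genProj R K G)).app L₀).symm) hM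
  have hne : (G.left.basicOpen (pie G ϖ) : Set G.left).Nonempty := by
    rw [← opensRange_genProj R K G hϖ]
    obtain ⟨x⟩ : Nonempty ((SGA7.genFib R K).obj G).left := inferInstance
    exact ⟨_, x, rfl⟩
  obtain ⟨V, hV, hVc⟩ := K362.AffV.exists_affine (π := pie G ϖ) hgood (by
    have h := finite_cmpSet G hϖ
    exact (cmpSet (pie G ϖ)).toFinite)
  have h0 : η[G].left (IsLocalRing.closedPoint R) ∉ G.left.basicOpen (pie G ϖ) :=
    (notMem_iff G hϖ _).mpr (section_mem_specialFibreSet G _)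
  obtain ⟨z₀, -, hz₀V⟩ := hVc _ h0
  have hVd : Dense (V : Set G.left) := V.2.dense ⟨z₀, hz₀V⟩
  have hloc := Groth.Agent.Grpsch.AmpGroup.locPrincipal_of_ufd G.left (fun x =>
    have := Groth.Agent.Fga.DVRGeom.isRegularLocalRing_stalk G.hom x
    Groth.Agent.S2821.result (G.left.presheaf.stalk x)) V hV hVd
  obtain ⟨x, hxV, hx⟩ := nonempty_preirreducible_inter V.2 (G.left.basicOpen (pie G ϖ)).2 ⟨z₀, hz₀V⟩ hne
  obtain ⟨n, hn, S, hxS, hSV, -, -⟩ := Good.exists_nv_le hL₀ hLK' (x := x) hx (V := V) hxV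
  have hinv := isInvertible_tensorPow hL₀ n
  have hSne : ∀ y : G.left, y ∉ G.left.basicOpen (pie G ϖ) → ∀ W : G.left.Opens, y ∈ W →
      res (CohB1.tensorPow L₀ n) (le_top : W ≤ ⊤) S ≠ 0 := by
    intro y hy W hyW h0
    obtain ⟨w, hwW, hwS⟩ := nonempty_preirreducible_inter W.2 (nv _ S).2 ⟨y, hyW⟩ ⟨x, hxS⟩
    have h1 : IsGen (res (CohB1.tensorPow L₀ n) (inf_le_left : W ⊓ nv _ S ≤ W)
        (res (CohB1.tensorPow L₀ n) (le_top : W ≤ ⊤) S)) := by
      rw [res_res, ← le_nv_iff _ S le_top]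
      exact inf_le_right
    rw [h0, map_zero] at h1
    have h2 : (1 : Γ(G.left, W ⊓ nv _ S)) = 0 := h1.ext (by rw [smul_zero, smul_zero])
    have : Nonempty (W ⊓ nv _ S : G.left.Opens) := ⟨⟨w, hwW, hwS⟩⟩
    have : Nontrivial Γ(G.left, W ⊓ nv _ S) := inferInstance
    exact one_ne_zero h2
  obtain ⟨m, s, hLinv, hs, hsc⟩ := exists_good hD hinv hp hgood S hSne
  have hle : nv _ s ≤ V := by
    refine le_of_locPrincipal hD hp V (nv _ s) hloc (fun y hy W hyW => ?_) ?_
    · obtain ⟨z, hz, hzV⟩ := hVc y hy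
      obtain ⟨w, hw, hwW, hwV⟩ := (hgood y hy).1 (W : Set G.left) (V : Set G.left) W.2 V.2
        ⟨y, mem_cmp hy, hyW⟩ ⟨z, hz, hzV⟩
      exact ⟨w, hwW, hwV, cmp_subset hw⟩
    · rw [nv_inf_basicOpen hinv m s hD, hs]
      exact inf_le_left.trans hSV
  have haff : IsAffineOpen (nv _ s) := by
    have := isAffineOpen_inf_nv (locGen_top_iff.2 hLinv) s hV le_top
    rwa [inf_eq_right.2 hle] at this
  refine ⟨n, hn, _, hLinv, s, haff, hsc, ?_⟩
  obtain ⟨e₁⟩ := nonempty_pullback_iso hD (genProj R K G) (opensRange_genProj R K G hϖ).le hinv m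
  have h3 : Nonempty ((Scheme.Modules.pullback (genProj R K G)).obj (CohB1.tensorPow L₀ n) ≅
      CohB1.tensorPow M n) := by
    rw [← mk_eq_iff (isInvertible_pullback _ hinv) (isInvertible_tensorPow hM.1 n), ← pull_mk _ hinv,
      mk_tensorPow hL₀, map_pow, mk_tensorPow hM.1, pull_mk]
    congr 1
    exact mk_congr e₀
  obtain ⟨e₂⟩ := h3
  exact ⟨e₁ ≪≫ e₂⟩

section Sq

variable {R}
variable {G}

omit [IsDomain R] [IsDiscreteValuationRing R] [IsFractionRing R K] in
theorem gsec_mul [GrpObj G] (a b : 𝟙_ (Over (Spec (CommRingCat.of R))) ⟶ G) :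
    gsec K (a * b) = gsec K a * gsec K b := by
  rw [gsec, gsec, gsec, Functor.map_mul, MonObj.comp_mul]

omit [IsDomain R] [IsDiscreteValuationRing R] [IsFractionRing R K] in
theorem pull_genProj_tr [GrpObj G] (c : Pic G.left) (b : 𝟙_ (Over (Spec (CommRingCat.of R))) ⟶ G) :
    pull (genProj R K G) (pull (tr b).left c) =
      pl ((toUnit ((SGA7.genFib R K).obj G) ≫ gsec K b) * 𝟙 _) (pull (genProj R K G) c) := by
  rw [← pull_comp, ← map_left_genProj, pull_comp, map_tr]

variable (G) in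
theorem mem_vert_sq [GrpObj G] [Smooth G.hom] {ϖ : R} (hϖ : Irreducible ϖ)
    (m : Pic ((SGA7.genFib R K).obj G).left)
    (hsq : ∀ a b : 𝟙_ _ ⟶ (SGA7.genFib R K).obj G,
      pl ((toUnit _ ≫ (a * b)) * 𝟙 _) m * m = pl ((toUnit _ ≫ a) * 𝟙 _) m * pl ((toUnit _ ≫ b) * 𝟙 _) m)
    (c : Pic G.left) (n : ℕ) (hc : pull (genProj R K G) c = m ^ n)
    (a b : 𝟙_ (Over (Spec (CommRingCat.of R))) ⟶ G) :
    pull (tr (a * b)).left c * c * (pull (tr a).left c * pull (tr b).left c)⁻¹ ∈ vert (pie G ϖ) := by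
  refine mem_vert_of_pull_eq_one (Groth.Agent.Fga.DVRGeom.ores_tr_injective G.hom hϖ.ne_zero)
    (Groth.Agent.Fga.DVRGeom.isPrime_span_ge G.hom hϖ) (genProj R K G) (opensRange_genProj R K G hϖ) _ ?_
  rw [map_mul, map_mul, map_inv, map_mul, pull_genProj_tr, pull_genProj_tr, pull_genProj_tr, hc, map_pow, map_pow,
    map_pow, mul_inv_eq_one, ← mul_pow, ← mul_pow, gsec_mul, hsq]

end Sq

/-- The sections through the unit component, as a subgroup. -/
def unitSub [HenselianLocalRing R] [IsSepClosed (IsLocalRing.ResidueField R)] [GrpObj G] [IsCommMonObj G] :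
    Subgroup (𝟙_ (Over (Spec (CommRingCat.of R))) ⟶ G) where
  carrier := SGA7.secUnitComp R G
  mul_mem' := fun ha hb => mul_mem_secUnitComp G ha hb
  one_mem' := by
    change (1 : 𝟙_ (Over (Spec (CommRingCat.of R))) ⟶ G) ∈ SGA7.secUnitComp R G
    rw [mem_secUnitComp_iff]
  inv_mem' := fun {a} ha => by
    change a⁻¹ ∈ SGA7.secUnitComp R G
    change a ∈ SGA7.secUnitComp R G at ha
    rw [mem_secUnitComp_iff] at ha ⊢
    have h1 := (secComp_mul_right_eq_iff G a 1 a⁻¹).mpr ha
    rw [mul_inv_cancel, one_mul] at h1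
    exact h1.symm

/-- Sections through the unit component are divisible by integers invertible on the base. -/
theorem exists_root_unitSub [HenselianLocalRing R] [IsSepClosed (IsLocalRing.ResidueField R)]
    [GrpObj G] [IsCommMonObj G] [Smooth G.hom] [QuasiCompact G.hom] :
    ∃ l : ℕ, 2 ≤ l ∧ ∀ a ∈ unitSub R G, ∃ b ∈ unitSub R G, b ^ l = a := by
  obtain ⟨l, hl, hn⟩ : ∃ l : ℕ, 2 ≤ l ∧ (l : IsLocalRing.ResidueField R) ≠ 0 := by
    by_cases h : ((2 : ℕ) : IsLocalRing.ResidueField R) = 0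
    · refine ⟨3, by norm_num, ?_⟩
      intro h3
      have : (1 : IsLocalRing.ResidueField R) = 0 := by
        have h4 : ((3 : ℕ) : IsLocalRing.ResidueField R) = ((2 : ℕ) : IsLocalRing.ResidueField R) + 1 := by
          push_cast; norm_num
        rw [h4, h, zero_add] at h3
        exact h3
      exact one_ne_zero this
    · exact ⟨2, le_rfl, h⟩
  have hu : IsUnit (l : R) := by
    rw [← IsLocalRing.residue_ne_zero_iff_isUnit, map_natCast]
    exact hn
  have het : Etale (𝟙 G ^ l).left := by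
    refine Groth.Agent.Sga7.H751.PowEtale.etale_pow G l (fun s => ?_)
    have h1 : IsUnit (l : Γ(Spec (CommRingCat.of R), ⊤)) := by
      have := hu.map (Scheme.ΓSpecIso (CommRingCat.of R)).inv.hom
      rwa [map_natCast] at this
    have h2 := h1.map ((Spec (CommRingCat.of R)).evaluation ⊤ s trivial).hom
    rw [map_natCast] at h2
    exact h2.ne_zero
  exact ⟨l, hl, fun a ha => exists_root_mem_secUnitComp G ⟨inferInstance, inferInstance⟩ l a ha⟩

/-- **Ampleness.** -/
theorem exists_isAmple [HenselianLocalRing R] [IsSepClosed (IsLocalRing.ResidueField R)]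
    [GrpObj G] [IsCommMonObj G] [Smooth G.hom] [IsSeparated G.hom] [QuasiCompact G.hom]
    [GeometricallyIrreducible ((SGA7.genFib R K).obj G).hom]
    (M : ((SGA7.genFib R K).obj G).left.Modules) (hM : CohB1.IsAmple M)
    (hsq : ∀ a b : 𝟙_ _ ⟶ (SGA7.genFib R K).obj G,
      pl ((toUnit _ ≫ (a * b)) * 𝟙 _) (mk M hM.1) * mk M hM.1 =
        pl ((toUnit _ ≫ a) * 𝟙 _) (mk M hM.1) * pl ((toUnit _ ≫ b) * 𝟙 _) (mk M hM.1)) :
    ∃ (n : ℕ) (_ : 0 < n) (L : G.left.Modules), CohB1.IsAmple L ∧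
      Nonempty ((Scheme.Modules.pullback (genProj R K G)).obj L ≅ CohB1.tensorPow M n) := by
  obtain ⟨ϖ, hϖ⟩ := IsDiscreteValuationRing.exists_irreducible R
  obtain ⟨n, hn, L, hL, t, haff, ht, ⟨e⟩⟩ := exists_twist R K G M hM hϖ
  refine ⟨n, hn, L, ?_, ⟨e⟩⟩
  have hD := Groth.Agent.Fga.DVRGeom.ores_tr_injective G.hom hϖ.ne_zero
  have hln : IsLocallyNoetherian G.left := LocallyOfFiniteType.isLocallyNoetherian G.hom
  have hcs : CompactSpace G.left := QuasiCompact.compactSpace_of_compactSpace G.hom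
  have hno : IsNoetherian G.left := {}
  have hsep : G.left.IsSeparated := ⟨by
    have : IsSeparated (G.hom ≫ terminal.from _) := inferInstance
    rwa [terminal.comp_from] at this⟩
  have hfin := finite_cmpSet G hϖ
  have hLK : AmpleOn L (G.left.basicOpen (pie G ϖ)) := by
    rw [← opensRange_genProj R K G hϖ, ← isAmple_restrict_iff]
    exact Groth.Agent.Ega2.Weight.isAmple_of_iso
      (e.symm ≪≫ ((Scheme.Modules.restrictFunctorIsoPullback (genProj R K G)).app L).symm)
      (Groth.Agent.Divis.NormAmple.isAmple_tensorPow hM hn)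
  rw [isAmple_iff_ampleOn_top]
  refine ⟨locGen_top_iff.2 hL, isCompact_univ, fun x _ => ?_⟩
  by_cases hx : x ∈ G.left.basicOpen (pie G ϖ)
  · obtain ⟨k, hk, s, hxs, -, -, hs⟩ := Good.exists_nv_le hL hLK hx (V := ⊤) trivial
    exact ⟨k, hk, s, hxs, hs⟩
  · obtain ⟨a, ha, hxa, hxa'⟩ := K362.SecGeo.exists_section G hϖ (nv _ t) ht x hx
    have hVn := isNoetherian_vert (π := pie G ϖ) hD
    obtain ⟨l, hl, hdiv⟩ := exists_root_unitSub R G
    have hc : pull (genProj R K G) (mk L hL) = mk M hM.1 ^ n := by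
      rw [pull_mk, ← mk_tensorPow hM.1]
      exact mk_congr e
    obtain ⟨m, hm, hrel⟩ := K362.TorDiv.exists_pow_quasi (A := 𝟙_ (Over (Spec (CommRingCat.of R))) ⟶ G)
      (fun b => pull (tr b).left)
      (fun c => by
        change pull (tr (1 : 𝟙_ (Over (Spec (CommRingCat.of R))) ⟶ G)).left c = c
        rw [tr_one, Over.id_left, pull_id])
      (fun b b' c => by
        change pull (tr (b * b')).left c = pull (tr b).left (pull (tr b').left c)
        rw [← pull_comp, ← Over.comp_left, tr_comp_tr, _root_.mul_comm]) (mk L hL) (vert (pie G ϖ))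
      (unitSub R G)
      (fun b hb v hv => pull_eq_of_mem_vert hD (tr b).left (appTop_tr G b)
        (fun y hy => cmp_tr G hϖ hb y hy) hv)
      (fun b b' => mem_vert_sq K G hϖ (mk M hM.1) hsq (mk L hL) n hc b b') l hl hdiv a ha
    let τ : G.left ⟶ G.left := (tr a).left
    let τ' : G.left ⟶ G.left := (tr a⁻¹).left
    have hτ : IsIso τ := inferInstanceAs (IsIso (Over.forget _ |>.map (trIso a).hom))
    have hτ' : IsIso τ' := inferInstanceAs (IsIso (Over.forget _ |>.map (trIso a⁻¹).hom))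
    let P : G.left.Modules := CohB1.tensorMod ((Scheme.Modules.pullback τ).obj L)
        ((Scheme.Modules.pullback τ').obj L)
    have hP : PicF.IsInvertible P := isInvertible_tensorMod (isInvertible_pullback τ hL) (isInvertible_pullback τ' hL)
    let s : Coh.structureModule G.left ⟶ P :=
      Groth.Agent.Fdesc.LocGen.tmulHom (Groth.Agent.Ega2.Weight.pullHom τ (homOf t))
        (Groth.Agent.Ega2.Weight.pullHom τ' (homOf t))
    have hs : CohB1.genLocus _ s = τ ⁻¹ᵁ (nv _ t) ⊓ τ' ⁻¹ᵁ (nv _ t) := by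
      rw [genLocus_tmulHom (isInvertible_pullback τ hL) (isInvertible_pullback τ' hL),
        Groth.Agent.Ega2.Weight.genLocus_pullHom τ hL, Groth.Agent.Ega2.Weight.genLocus_pullHom τ' hL,
        nv_eq_genLocus]
    have hiso : Nonempty (CohB1.tensorPow P m ≅ CohB1.tensorPow L (m + m)) := by
      rw [← mk_eq_iff (isInvertible_tensorPow hP m) (isInvertible_tensorPow hL (m + m)), mk_tensorPow hP,
        mk_tensorPow hL, pow_add, ← mul_pow, ← hrel,
        ← mk_mul_mk (isInvertible_pullback τ hL) (isInvertible_pullback τ' hL), ← pull_mk τ hL,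
        ← pull_mk τ' hL]
    obtain ⟨e'⟩ := hiso
    let w : Coh.structureModule G.left ⟶ CohB1.tensorPow L (m + m) := homOf (Groth.Agent.Fdesc.LocGen.pow (sec s ⊤) m) ≫ e'.hom
    have hw : nv _ (sec w ⊤) = τ ⁻¹ᵁ (nv _ t) ⊓ τ' ⁻¹ᵁ (nv _ t) := by
      rw [← genLocus_eq_nv, Groth.Agent.Ega2.Weight.genLocus_comp, ← nv_eq_genLocus, nv_pow hP _ hm,
        ← genLocus_eq_nv, hs]
    refine ⟨m + m, by omega, sec w ⊤, ?_, ?_⟩
    · rw [hw]
      exact ⟨hxa, hxa'⟩
    · rw [hw]
      exact (haff.preimage τ).inf (haff.preimage τ')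

end K362.AmpMulti
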