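import Groth.Agent.Neron.K362.Twist

/-!
# Division of sections by `π` along the components of `V(π)`

Let `F` be the complement of `D(π)` and suppose its connected components are relatively open and irreducible.

* `exists_good`: a section `S` of an invertible module which is nonzero near every point of `F` becomes, in a suitable
  twist of the module, a section not vanishing identically on any component of `F`.
-/

set_option autoImplicit false
universe u

open CategoryTheory CategoryTheory.Limits AlgebraicGeometry Opposite TopologicalSpace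

namespace K362.DivO

open Groth.Agent.Fdesc.LocGen Groth.Agent.Fga.GenIso Groth.Agent.Ega2.Nv Groth.Agent.Ega2.Ample
open Groth.Agent.Sga7.H260.Div K362.Twist

variable {X : Scheme.{u}} {π : Γ(X, ⊤)}
variable (hD : ∀ (U : X.Opens) (a b : Γ(X, U)), ores (tr_le π U) a = ores (tr_le π U) b → a = b)

include hD in
/-- Division by `π` over an open. -/
theorem exists_smul_of_nv_le {M : X.Modules} (hM : PicF.IsInvertible M)
    (hp : ∀ y : X, y ∉ X.basicOpen π → (Ideal.span {gp π y}).IsPrime) {O : X.Opens}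
    (s : Γ(M, O)) (hs : nv M s ≤ X.basicOpen π) : ∃ s' : Γ(M, O), s = ores (le_top : O ≤ ⊤) π • s' := by
  obtain ⟨s', hs'⟩ := exists_smul_eq_of_divAt hD hM s 1 (fun y hyO hy => by
    obtain ⟨U', e', hyU', he'⟩ := (isInvertible_iff M).mp hM y
    let U := U' ⊓ O
    have hyU : y ∈ U := ⟨hyU', hyO⟩
    let e : Γ(M, U) := res M inf_le_left e'
    have he : IsGen e := he'.res _
    obtain ⟨f, hf⟩ := he.exists_eq (res M (inf_le_right : U ≤ O) s)
    have h1 : X.basicOpen f ≤ X.basicOpen π := by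
      rw [← nv_inf_of_eq_smul s inf_le_right he f hf]
      exact inf_le_right.trans hs
    obtain ⟨g, hg⟩ := dvd_ge_of_basicOpen_le π hyU f (hp y hy) h1
    obtain ⟨W₁, hyW₁, v, rfl⟩ := X.presheaf.exists_germ_eq g
    obtain ⟨W, h2, h3, hyW, h4⟩ := exists_ores_eq_of_ge_eq hyU hyW₁ f
      (ores (le_top : W₁ ≤ ⊤) π * v) (by
        rw [hg, map_mul, ge_ores])
    refine ⟨W, h2.trans inf_le_right, ores h3 v • res M h2 e, hyW, ?_⟩
    have h5 := congr(res M h2 $hf)
    rw [res_res, res_smul, h4, map_mul, ores_ores, mul_smul] at h5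
    rw [pow_one]
    exact h5)
  exact ⟨s', by rw [hs', pow_one]⟩

include hD in
/-- A section which is nonzero near some point outside `D(π)` is a power of `π` times a section not vanishing at
some point outside `D(π)`. -/
theorem exists_div [IsLocallyNoetherian X] {M : X.Modules} (hM : PicF.IsInvertible M)
    (hp : ∀ y : X, y ∉ X.basicOpen π → (Ideal.span {gp π y}).IsPrime) {O : X.Opens}
    (s : Γ(M, O)) {y : X} (hyO : y ∈ O) (hy : y ∉ X.basicOpen π)
    (hs : ∀ (W : X.Opens) (h : W ≤ O), y ∈ W → res M h s ≠ 0) :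
    ∃ (n : ℕ) (s' : Γ(M, O)), s = ores (le_top : O ≤ ⊤) π ^ n • s' ∧ ¬ nv M s' ≤ X.basicOpen π := by
  by_contra hcon
  push Not at hcon
  have h1 : ∀ n : ℕ, ∃ s' : Γ(M, O), s = ores (le_top : O ≤ ⊤) π ^ n • s' := by
    intro n
    induction n with
    | zero => exact ⟨s, by rw [pow_zero, one_smul]⟩
    | succ n ih =>
      obtain ⟨s', hs'⟩ := ih
      obtain ⟨s'', hs''⟩ := exists_smul_of_nv_le hD hM hp s' (hcon n s' hs')
      exact ⟨s'', by rw [hs', hs'', smul_smul, pow_succ]⟩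
  obtain ⟨U', e', hyU', he'⟩ := (isInvertible_iff M).mp hM y
  let U := U' ⊓ O
  have hyU : y ∈ U := ⟨hyU', hyO⟩
  let e : Γ(M, U) := res M inf_le_left e'
  have he : IsGen e := he'.res _
  obtain ⟨f, hf⟩ := he.exists_eq (res M (inf_le_right : U ≤ O) s)
  have h2 : ∀ n : ℕ, gp π y ^ n ∣ ge hyU f := by
    intro n
    obtain ⟨s', hs'⟩ := h1 n
    obtain ⟨g, hg⟩ := he.exists_eq (res M (inf_le_right : U ≤ O) s')
    have h3 : f = ores (le_top : U ≤ ⊤) π ^ n * g := by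
      apply he.ext
      rw [← hf, hs', res_smul, hg, smul_smul, map_pow, ores_ores]
    rw [h3, map_mul, map_pow, ge_ores]
    exact Dvd.intro _ rfl
  have h3 : ge hyU f = 0 := by
    have hmax : gp π y ∈ IsLocalRing.maximalIdeal (X.presheaf.stalk y) := by
      rw [IsLocalRing.mem_maximalIdeal]
      intro hu
      exact hy ((mem_basicOpen_iff_ge _ π).mpr hu)
    have h4 : (⨅ n : ℕ, (IsLocalRing.maximalIdeal (X.presheaf.stalk y)) ^ n) = ⊥ :=
      Ideal.iInf_pow_eq_bot_of_isLocalRing _ (IsLocalRing.maximalIdeal.isMaximal _).ne_top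
    rw [← Ideal.mem_bot, ← h4, Ideal.mem_iInf]
    intro n
    obtain ⟨c, hc⟩ := h2 n
    rw [hc]
    exact Ideal.mul_mem_right _ _ (Ideal.pow_mem_pow hmax n)
  obtain ⟨W, h4, h4', hyW, h5⟩ := exists_ores_eq_of_ge_eq hyU hyU f 0 (by rw [h3, map_zero])
  apply hs W (h4.trans inf_le_right) hyW
  have h6 := congr(res M h4 $hf)
  rw [res_res, res_smul, h5, map_zero, zero_smul] at h6
  exact h6

include hD in
/-- A locally principal open containing the part of `N` in `D(π)` and meeting `V(π)` in a dense subset contains `N`. -/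
theorem le_of_locPrincipal (hp : ∀ y : X, y ∉ X.basicOpen π → (Ideal.span {gp π y}).IsPrime)
    (V N : X.Opens)
    (hV : ∀ y : X, y ∉ V → ∃ (W : X.Opens) (f : Γ(X, W)), y ∈ W ∧ X.basicOpen f = W ⊓ V)
    (hVZ : ∀ y : X, y ∉ X.basicOpen π → ∀ W : X.Opens, y ∈ W → ∃ z ∈ W, z ∈ V ∧ z ∉ X.basicOpen π)
    (hN : N ⊓ X.basicOpen π ≤ V) : N ≤ V := by
  intro y hyN
  by_contra hyV
  have hy : y ∉ X.basicOpen π := fun h => hyV (hN ⟨hyN, h⟩)
  obtain ⟨W, f, hyW, hf⟩ := hV y hyV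
  obtain ⟨m, g, hg⟩ := exists_mul_eq_pow π hyW (show y ∈ N ⊓ W from ⟨hyN, hyW⟩) f (by
    rw [hf]
    exact fun z hz => ⟨hz.1.2, hN ⟨hz.1.1, hz.2⟩⟩)
  obtain ⟨u, i, hu, hui⟩ := exists_unit_mul_pow (ge_regular hD) (hp y hy) _ _ _ hg
  rcases Nat.eq_zero_or_pos i with rfl | hi
  · rw [pow_zero, mul_one] at hui
    have h1 : y ∈ X.basicOpen f := by
      rw [mem_basicOpen_iff_ge hyW, hui]
      exact hu
    rw [hf] at h1
    exact hyV h1.2
  · obtain ⟨W₁, hyW₁, v, rfl⟩ := X.presheaf.exists_germ_eq u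
    obtain ⟨W₂, h2, h3, hyW₂, h4⟩ := exists_ores_eq_of_ge_eq hyW hyW₁ f
      (v * ores (le_top : W₁ ≤ ⊤) π ^ i) (by
        rw [hui, map_mul, map_pow, ge_ores])
    obtain ⟨z, hzW, hzV, hz⟩ := hVZ y hy W₂ hyW₂
    apply hz
    have h5 : z ∈ X.basicOpen f := by
      rw [hf]; exact ⟨h2 hzW, hzV⟩
    have h6 : z ∈ X.basicOpen (ores h2 f) := by
      rw [Groth.Agent.Ega2.ExtCoeff.basicOpen_res]
      exact ⟨hzW, h5⟩
    rw [h4, map_mul, map_pow, ores_ores, Scheme.basicOpen_mul, Scheme.basicOpen_pow _ _ hi,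
      Groth.Agent.Ega2.ExtCoeff.basicOpen_res] at h6
    have h7 := h6.2
    rw [Groth.Agent.Ega2.ExtCoeff.basicOpen_res] at h7
    exact h7.2

section Comp

variable (X π)

/-- The connected components of `V(π)` are relatively open and irreducible. -/
def Good : Prop :=
  ∀ y : X, y ∉ X.basicOpen π →
    IsPreirreducible (connectedComponentIn ((X.basicOpen π : Set X)ᶜ) y) ∧
    ∃ O : X.Opens, (O : Set X) ∩ (X.basicOpen π : Set X)ᶜ = connectedComponentIn ((X.basicOpen π : Set X)ᶜ) y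

end Comp

/-- The component of a point. -/
abbrev cmp (π : Γ(X, ⊤)) (y : X) : Set X := connectedComponentIn ((X.basicOpen π : Set X)ᶜ) y

theorem mem_cmp {y : X} (hy : y ∉ X.basicOpen π) : y ∈ cmp π y := mem_connectedComponentIn hy

theorem cmp_subset {y z : X} (hz : z ∈ cmp π y) : z ∉ X.basicOpen π := connectedComponentIn_subset _ _ hz

theorem cmp_eq {y z : X} (hz : z ∈ cmp π y) : cmp π z = cmp π y := (connectedComponentIn_eq hz).symm

include hD in
/-- The order of vanishing along a component. -/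
theorem exists_ord [IsLocallyNoetherian X] {M : X.Modules} (hM : PicF.IsInvertible M)
    (hp : ∀ y : X, y ∉ X.basicOpen π → (Ideal.span {gp π y}).IsPrime) (hgood : Good X π)
    (S : Γ(M, ⊤)) (hS : ∀ y : X, y ∉ X.basicOpen π → ∀ W : X.Opens, y ∈ W → res M (le_top : W ≤ ⊤) S ≠ 0)
    (y : X) (hy : y ∉ X.basicOpen π) :
    ∃ (n : ℕ) (O : X.Opens) (S' : Γ(M, O)), cmp π y ⊆ O ∧ (∀ z ∈ O, z ∉ X.basicOpen π → z ∈ cmp π y) ∧
      res M (le_top : O ≤ ⊤) S = ores (le_top : O ≤ ⊤) π ^ n • S' ∧ ∃ z ∈ cmp π y, z ∈ nv M S' := by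
  obtain ⟨-, O, hO⟩ := hgood y hy
  have hyO : y ∈ O := (hO.ge (mem_cmp hy)).1
  obtain ⟨n, S', h1, h2⟩ := exists_div hD hM hp (res M (le_top : O ≤ ⊤) S) hyO hy (fun W hW hyW => by
    rw [res_res]
    exact hS y hy W hyW)
  obtain ⟨z, hz1, hz2⟩ := SetLike.not_le_iff_exists.mp h2
  exact ⟨n, O, S', fun z hz => (hO.ge hz).1, fun z hz hzD => hO.le ⟨hz, hzD⟩, h1, z,
    hO.le ⟨nv_le _ _ hz1, hz2⟩, hz1⟩

include hD in
theorem exists_good [IsLocallyNoetherian X] {M : X.Modules} (hM : PicF.IsInvertible M)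
    (hp : ∀ y : X, y ∉ X.basicOpen π → (Ideal.span {gp π y}).IsPrime) (hgood : Good X π)
    (S : Γ(M, ⊤)) (hS : ∀ y : X, y ∉ X.basicOpen π → ∀ W : X.Opens, y ∈ W → res M (le_top : W ≤ ⊤) S ≠ 0) :
    ∃ (m : X → ℕ) (s : Γ(tw π M m, ⊤)), PicF.IsInvertible (tw π M m) ∧ (twι π M m).app ⊤ s = S ∧
      ∀ y : X, y ∉ X.basicOpen π → ∃ z ∈ cmp π y, z ∈ nv _ s := by
  classical
  have key : ∀ C : Set X, ∃ n : ℕ, ∀ y : X, y ∉ X.basicOpen π → cmp π y = C →
      ∃ (O : X.Opens) (S' : Γ(M, O)), C ⊆ O ∧ (∀ z ∈ O, z ∉ X.basicOpen π → z ∈ C) ∧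
      res M (le_top : O ≤ ⊤) S = ores (le_top : O ≤ ⊤) π ^ n • S' ∧ ∃ z ∈ C, z ∈ nv M S' := by
    intro C
    by_cases hC : ∃ y : X, y ∉ X.basicOpen π ∧ cmp π y = C
    · obtain ⟨y, hy, rfl⟩ := hC
      obtain ⟨n, h⟩ := exists_ord hD hM hp hgood S hS y hy
      exact ⟨n, fun _ _ _ => h⟩
    · exact ⟨0, fun y hy hyC => absurd ⟨y, hy, hyC⟩ hC⟩
  choose n hn using key
  let m : X → ℕ := fun y => n (cmp π y)
  have hm : ∀ y : X, y ∉ X.basicOpen π → ∃ W : X.Opens, y ∈ W ∧ ∀ z ∈ W, z ∉ X.basicOpen π → m z = m y := by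
    intro y hy
    obtain ⟨O, S', h1, h2, -⟩ := hn _ y hy rfl
    refine ⟨O, h1 (mem_cmp hy), fun z hz hzD => ?_⟩
    change n _ = n _
    rw [cmp_eq (h2 z hz hzD)]
  obtain ⟨s, hs⟩ := exists_tw (m := m) S (fun y _ hy => by
    obtain ⟨O, S', h1, h2, h3, -⟩ := hn _ y hy rfl
    exact ⟨O, le_top, S', h1 (mem_cmp hy), h3⟩)
  refine ⟨m, s, isInvertible_tw hD hM hm, hs, fun y hy => ?_⟩
  obtain ⟨O, S', h1, h2, h3, z, hz, hz'⟩ := hn _ y hy rfl
  refine ⟨z, hz, ?_⟩
  have hgen := isGen_nv M S'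
  have hle : nv M S' ≤ O := nv_le _ _
  have h4 : IsGen (res (tw π M m) (le_top : nv M S' ≤ ⊤) s) := by
    refine isGen_tw hD hM hgen (m y) (fun w hw hwD => ?_) _ ?_
    · change n _ = n _
      rw [cmp_eq (h2 w (hle hw) hwD)]
    · rw [app_res, hs]
      have h5 := congr(res M hle $h3)
      rw [res_res, res_smul, map_pow, ores_ores] at h5
      exact h5
  exact (le_nv_iff _ s le_top).mpr h4 hz'

end K362.DivO
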