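import Groth.Agent.Neron.K362.AmpSH
import Groth.Agent.Neron.K643.NeronDesc
import Groth.Agent.Neron.K131.SHBdd
import Groth.Agent.Neron.K956.Exc
import Groth.Agent.S0537

/-!
# Néron models over a discrete valuation ring from boundedness over a strict henselization

`exists_isNeron_of_bdd`: `R` a discrete valuation ring, `R'` a strict henselization, `K`, `K'` the fraction fields, `J` a
smooth connected commutative separated group scheme of finite type over `K` such that `J(K')` is bounded.  Then `J` has a
Néron model of finite type over `R`.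
-/

set_option autoImplicit false
universe u

open CategoryTheory Limits MonoidalCategory CartesianMonoidalCategory AlgebraicGeometry
open scoped MonObj

namespace K362.DvrFin

open Groth.Agent.Sga7.H516.Square

theorem exists_isNeron_of_bdd (R R' K K' : Type u) [CommRing R] [IsDomain R] [IsDiscreteValuationRing R] [CommRing R']
    [IsDomain R'] [IsLocalRing R'] [Algebra R R'] [IsLocalHom (algebraMap R R')] [hsh : Hensel.IsStrictHenselization R R']
    [Field K] [Algebra R K] [IsFractionRing R K] [Field K'] [Algebra R' K'] [IsFractionRing R' K']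
    [Algebra K K'] [Algebra R K'] [IsScalarTower R K K'] [IsScalarTower R R' K']
    (J : Over (Spec (CommRingCat.of K))) [GrpObj J] [IsCommMonObj J] [Smooth J.hom] [IsSeparated J.hom]
    [QuasiCompact J.hom] [ConnectedSpace J.left]
    (hb : K131.Bdd.Bdd R' (Red.bc (sp K K') J).hom (fun _ => True)) :
    ∃ (N : Over (Spec (CommRingCat.of R))) (_ : (SGA7.genFib R K).obj N ≅ J), SGA7.IsNeron R K N := by
  have hgi : GeometricallyIntegral J.hom := Groth.Agent.Sga3.H780.Pointed.geometricallyIntegral J
  have hgirr : GeometricallyIrreducible J.hom := inferInstance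
  have hR' : IsDiscreteValuationRing R' := Groth.Agent.Sga7.H516.SHBasic.isDiscreteValuationRing R R'
  have hh : HenselianLocalRing R' := hsh.henselian
  have hsep : IsSepClosed (IsLocalRing.ResidueField R') := hsh.isSepClosure.sep_closed
  let A := Red.bc (sp K K') J
  have : Smooth A.hom := inferInstanceAs (Smooth (pullback.snd J.hom (sp K K')))
  have : IsSeparated A.hom := inferInstanceAs (IsSeparated (pullback.snd J.hom (sp K K')))
  have : QuasiCompact A.hom := inferInstanceAs (QuasiCompact (pullback.snd J.hom (sp K K')))
  have : GeometricallyIrreducible A.hom := inferInstanceAs (GeometricallyIrreducible (pullback.snd J.hom (sp K K')))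
  obtain ⟨N', iN', e, he, hN'⟩ := K131.ExistSH.exists_neron A hb
  obtain ⟨LA, L', hLA, hL', ⟨θ⟩⟩ := K362.AmpSH.exists_isAmple_neron (R := R) J N' hN' e
  exact K643.NeronDesc.exists_isNeron' R R' K K' hN' e hLA hL' θ

/-- The same with the boundedness for all strict henselizations. -/
theorem exists_isNeron (R K : Type u) [CommRing R] [IsDomain R] [IsDiscreteValuationRing R] (hR : EGA4.IsExcellent R)
    [Field K] [Algebra R K] [IsFractionRing R K]
    (J : Over (Spec (CommRingCat.of K))) [GrpObj J] [IsCommMonObj J] [Smooth J.hom] [IsSeparated J.hom]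
    [QuasiCompact J.hom] [ConnectedSpace J.left]
    (hb : ∀ (R' K' : Type u) [CommRing R'] [IsDomain R'] [IsDiscreteValuationRing R'] [HenselianLocalRing R']
      [IsSepClosed (IsLocalRing.ResidueField R')] [Algebra R R'] [IsLocalHom (algebraMap R R')]
      [Hensel.IsStrictHenselization R R'] [Field K'] [Algebra R' K'] [IsFractionRing R' K']
      [Algebra K K'] [Algebra R K'] [IsScalarTower R K K'] [IsScalarTower R R' K'] (_ : EGA4.IsExcellent R'),
      K131.Bdd.Bdd R' (Red.bc (sp K K') J).hom (fun _ => True)) :
    ∃ (N : Over (Spec (CommRingCat.of R))) (_ : (SGA7.genFib R K).obj N ≅ J), SGA7.IsNeron R K N := by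
  obtain ⟨R', i1, i2, i3, i4, i5⟩ := Groth.Agent.S0537.result R
  have i6 : IsDomain R' := Groth.Agent.Sga7.H516.SHBasic.isDomain R R'
  have i7 : IsDiscreteValuationRing R' := Groth.Agent.Sga7.H516.SHBasic.isDiscreteValuationRing R R'
  have hh : HenselianLocalRing R' := i5.henselian
  have hsep : IsSepClosed (IsLocalRing.ResidueField R') := i5.isSepClosure.sep_closed
  have hinj : Function.Injective ((algebraMap R' (FractionRing R')).comp (algebraMap R R')) :=
    (IsFractionRing.injective R' (FractionRing R')).comp (Groth.Agent.Sga7.H516.SHBasic.algebraMap_injective R R')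
  let _ : Algebra K (FractionRing R') := (IsFractionRing.lift hinj).toAlgebra
  have t2 : IsScalarTower R K (FractionRing R') := IsScalarTower.of_algebraMap_eq fun r => by
    change _ = IsFractionRing.lift hinj (algebraMap R K r)
    rw [IsFractionRing.lift_algebraMap]
    exact IsScalarTower.algebraMap_apply R R' (FractionRing R') r
  exact exists_isNeron_of_bdd R R' K (FractionRing R') J
    (hb R' (FractionRing R') (K956.Exc.isExcellent_of_isStrictHenselization R R' hR))

/-- The same in terms of `Neron.IsNeronModelOf`. -/
theorem exists_isNeronModelOf (R : Type u) [CommRing R] [IsDomain R] [IsDiscreteValuationRing R]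
    (hR : EGA4.IsExcellent R) (J : Over (Spec (CommRingCat.of (FractionRing R)))) [GrpObj J] [IsCommMonObj J]
    [Smooth J.hom] [IsSeparated J.hom] [QuasiCompact J.hom] [ConnectedSpace J.left]
    (hb : ∀ (R' K' : Type u) [CommRing R'] [IsDomain R'] [IsDiscreteValuationRing R'] [HenselianLocalRing R']
      [IsSepClosed (IsLocalRing.ResidueField R')] [Algebra R R'] [IsLocalHom (algebraMap R R')]
      [Hensel.IsStrictHenselization R R'] [Field K'] [Algebra R' K'] [IsFractionRing R' K']
      [Algebra (FractionRing R) K'] [Algebra R K'] [IsScalarTower R (FractionRing R) K'] [IsScalarTower R R' K']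
      (_ : EGA4.IsExcellent R'), K131.Bdd.Bdd R' (Red.bc (sp (FractionRing R) K') J).hom (fun _ => True)) :
    ∃ (N : Over (Spec (CommRingCat.of R))) (e : (Neron.genericFibre R).obj N ≅ J), Neron.IsNeronModelOf R N J e := by
  obtain ⟨N, e, hN⟩ := exists_isNeron R (FractionRing R) hR J hb
  have h1 : Smooth N.hom := hN.1
  refine ⟨N, e, hN.1, hN.2.1, inferInstance, hN.2.2.1, fun Y hY => ?_⟩
  have h2 : Function.Bijective (fun g : (Neron.genericFibre R).obj Y ⟶ (Neron.genericFibre R).obj N => g ≫ e.hom) :=
    ⟨fun a b h => (cancel_mono e.hom).mp h, fun b => ⟨b ≫ e.inv, by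
      change (b ≫ e.inv) ≫ e.hom = b
      rw [Category.assoc, e.inv_hom_id, Category.comp_id]⟩⟩
  exact h2.comp (hN.2.2.2 Y hY)

end K362.DvrFin
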