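import Groth.Agent.Sga7.H260.Good
import Groth.Agent.Ega1.SubSheaf
import Groth.Agent.Grpsch.PicGrp

/-!
# Twisting an invertible module by vertical components

`X` a scheme, `π` a regular global function generating prime ideals in the local rings outside `D(π)`.

* `exists_smul_eq_of_divAt`: a section which is locally divisible by `π ^ k` is divisible by `π ^ k`.
* `tw`: the submodule of sections of `M` divisible by `π ^ (m y)` near every point `y` outside `D(π)`;
  it is invertible (`isInvertible_tw`) if `M` is and `m` is locally constant outside `D(π)`, and it agrees with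
  `M` on `D(π)`.
-/

set_option autoImplicit false
universe u

open CategoryTheory CategoryTheory.Limits AlgebraicGeometry Opposite TopologicalSpace

namespace K362.Twist

open Groth.Agent.Fdesc.LocGen Groth.Agent.Fga.GenIso Groth.Agent.Ega2.Nv
open Groth.Agent.Ega1.SubSheaf (Sub)

variable {X : Scheme.{u}} (π : Γ(X, ⊤))

/-- Local divisibility by `π ^ k` near `y`. -/
def DivAt (M : X.Modules) {U : X.Opens} (x : Γ(M, U)) (y : X) (k : ℕ) : Prop :=
  ∃ (W : X.Opens) (h : W ≤ U) (x' : Γ(M, W)), y ∈ W ∧ res M h x = ores (le_top : W ≤ ⊤) π ^ k • x'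

variable {π}

theorem divAt_res {M : X.Modules} {U V : X.Opens} (h : V ≤ U) {x : Γ(M, U)} {y : X} (hy : y ∈ V) {k : ℕ}
    (hx : DivAt π M x y k) : DivAt π M (res M h x) y k := by
  obtain ⟨W, hW, x', hyW, e⟩ := hx
  refine ⟨W ⊓ V, inf_le_right, res M inf_le_left x', ⟨hyW, hy⟩, ?_⟩
  have h1 := congr(res M (inf_le_left : W ⊓ V ≤ W) $e)
  rw [res_res, res_smul, map_pow, ores_ores] at h1
  rw [res_res]
  exact h1

theorem divAt_of_res {M : X.Modules} {U V : X.Opens} (h : V ≤ U) {x : Γ(M, U)} {y : X} {k : ℕ}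
    (hx : DivAt π M (res M h x) y k) : DivAt π M x y k := by
  obtain ⟨W, hW, x', hyW, e⟩ := hx
  rw [res_res] at e
  exact ⟨W, hW.trans h, x', hyW, e⟩

theorem divAt_add {M : X.Modules} {U : X.Opens} {x x' : Γ(M, U)} {y : X} {k : ℕ}
    (hx : DivAt π M x y k) (hx' : DivAt π M x' y k) : DivAt π M (x + x') y k := by
  obtain ⟨W, hW, z, hyW, e⟩ := hx
  obtain ⟨W', hW', z', hyW', e'⟩ := hx'
  refine ⟨W ⊓ W', inf_le_left.trans hW, res M inf_le_left z + res M inf_le_right z', ⟨hyW, hyW'⟩, ?_⟩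
  have h1 := congr(res M (inf_le_left : W ⊓ W' ≤ W) $e)
  have h2 := congr(res M (inf_le_right : W ⊓ W' ≤ W') $e')
  rw [res_res, res_smul, map_pow, ores_ores] at h1 h2
  rw [map_add, h1, h2, smul_add]

theorem divAt_smul' {M : X.Modules} {U : X.Opens} (a : Γ(X, U)) {x : Γ(M, U)} {y : X} {k : ℕ}
    (hx : DivAt π M x y k) : DivAt π M (a • x) y k := by
  obtain ⟨W, hW, z, hyW, e⟩ := hx
  refine ⟨W, hW, ores hW a • z, hyW, ?_⟩
  rw [res_smul, e, smul_comm]

theorem divAt_zero {M : X.Modules} {U : X.Opens} {y : X} (hy : y ∈ U) {k : ℕ} :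
    DivAt π M (0 : Γ(M, U)) y k :=
  ⟨U, le_rfl, 0, hy, by rw [map_zero, smul_zero]⟩

theorem divAt_smul {M : X.Modules} {U : X.Opens} (x : Γ(M, U)) {y : X} (hy : y ∈ U) {k : ℕ} :
    DivAt π M (ores (le_top : U ≤ ⊤) π ^ k • x) y k :=
  ⟨U, le_rfl, x, hy, by rw [res_refl]⟩

variable (hD : ∀ (U : X.Opens) (a b : Γ(X, U)), ores (tr_le π U) a = ores (tr_le π U) b → a = b)

include hD in
theorem pow_smul_cancel {M : X.Modules} (hM : PicF.IsInvertible M) {U : X.Opens} (k : ℕ) {m m' : Γ(M, U)}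
    (h : ores (le_top : U ≤ ⊤) π ^ k • m = ores (le_top : U ≤ ⊤) π ^ k • m') : m = m' := by
  apply res_tr_injective hD hM U
  have h1 := congr(res M (tr_le π U) $h)
  rw [res_smul, res_smul, map_pow, ores_ores] at h1
  exact ((isUnit_res π (tr_le_D π U)).pow k).smul_left_cancel.mp h1

include hD in
/-- A section which is locally divisible by `π ^ k` is divisible by `π ^ k`. -/
theorem exists_smul_eq_of_divAt {M : X.Modules} (hM : PicF.IsInvertible M) {U : X.Opens} (x : Γ(M, U)) (k : ℕ)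
    (hx : ∀ y ∈ U, y ∉ X.basicOpen π → DivAt π M x y k) :
    ∃ x' : Γ(M, U), x = ores (le_top : U ≤ ⊤) π ^ k • x' := by
  have key : ∀ y : U, ∃ (W : X.Opens) (hW : W ≤ U) (m : Γ(M, W)), (y : X) ∈ W ∧
      res M hW x = ores (le_top : W ≤ ⊤) π ^ k • m := by
    rintro ⟨y, hyU⟩
    by_cases hy : y ∈ X.basicOpen π
    · obtain ⟨v, hv⟩ := ((isUnit_res π (inf_le_left : X.basicOpen π ⊓ U ≤ X.basicOpen π)).pow k).exists_right_inv
      refine ⟨X.basicOpen π ⊓ U, inf_le_right, v • res M inf_le_right x, ⟨hy, hyU⟩, ?_⟩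
      rw [smul_smul, hv, one_smul]
    · obtain ⟨W, h, x', hyW, e⟩ := hx y hyU hy
      exact ⟨W, h, x', hyW, e⟩
  choose W hWU m hyW hm using key
  obtain ⟨s', hs'⟩ := res_glue M (V := U) W hWU
    (fun x hx => Opens.mem_iSup.mpr ⟨⟨x, hx⟩, hyW ⟨x, hx⟩⟩) m (by
      intro x y
      apply pow_smul_cancel hD hM k
      have h1 := congr(res M (inf_le_left : W x ⊓ W y ≤ W x) $(hm x))
      have h2 := congr(res M (inf_le_right : W x ⊓ W y ≤ W y) $(hm y))
      rw [res_res, res_smul, map_pow, ores_ores] at h1 h2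
      rw [← h1, ← h2])
  refine ⟨s', res_ext M W hWU (fun x hx => Opens.mem_iSup.mpr ⟨⟨x, hx⟩, hyW ⟨x, hx⟩⟩) fun x => ?_⟩
  rw [hm, res_smul, hs', map_pow, ores_ores]

variable (π) in
/-- The subsheaf of sections divisible by `π ^ (m y)` near every `y` outside `D(π)`. -/
def twSub (M : X.Modules) (m : X → ℕ) : Sub M where
  obj U :=
    { carrier := {x | ∀ y ∈ U, y ∉ X.basicOpen π → DivAt π M x y (m y)}
      add_mem' := fun ha hb y hy hyD => divAt_add (ha y hy hyD) (hb y hy hyD)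
      zero_mem' := fun y hy _ => divAt_zero hy
      smul_mem' := fun a x hx y hy hyD => divAt_smul' a (hx y hy hyD) }
  map_mem {U V} h {s} hs := fun y hy hyD => divAt_res h hy (hs y (h hy) hyD)
  local_mem {U} s h := fun y hy hyD => by
    obtain ⟨V, hV, hyV, h1⟩ := h y hy
    exact divAt_of_res hV (h1 y hyV hyD)

theorem mem_twSub {M : X.Modules} {m : X → ℕ} {U : X.Opens} {x : Γ(M, U)} :
    x ∈ (twSub π M m).obj U ↔ ∀ y ∈ U, y ∉ X.basicOpen π → DivAt π M x y (m y) := Iff.rfl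

variable (π) in
/-- The twisted module. -/
noncomputable def tw (M : X.Modules) (m : X → ℕ) : X.Modules := (twSub π M m).toModules

variable (π) in
/-- The inclusion of the twisted module. -/
noncomputable def twι (M : X.Modules) (m : X → ℕ) : tw π M m ⟶ M := (twSub π M m).ι

theorem twι_injective {M : X.Modules} {m : X → ℕ} (U : X.Opens) : Function.Injective ((twι π M m).app U) :=
  (twSub π M m).ι_app_injective U

theorem exists_tw {M : X.Modules} {m : X → ℕ} {U : X.Opens} (x : Γ(M, U))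
    (hx : ∀ y ∈ U, y ∉ X.basicOpen π → DivAt π M x y (m y)) :
    ∃ s : Γ(tw π M m, U), (twι π M m).app U s = x :=
  ((twSub π M m).mem_iff_exists x).mp hx

theorem divAt_twι {M : X.Modules} {m : X → ℕ} {U : X.Opens} (s : Γ(tw π M m, U)) (y : X) (hy : y ∈ U)
    (hyD : y ∉ X.basicOpen π) : DivAt π M ((twι π M m).app U s) y (m y) :=
  (twSub π M m).ι_app_mem s y hy hyD

include hD in
/-- `π ^ k` times a generator generates the twisted module. -/
theorem isGen_tw {M : X.Modules} (hM : PicF.IsInvertible M) {m : X → ℕ} {W : X.Opens} {e : Γ(M, W)} (he : IsGen e)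
    (k : ℕ) (hk : ∀ z ∈ W, z ∉ X.basicOpen π → m z = k) (s : Γ(tw π M m, W))
    (hs : (twι π M m).app W s = ores (le_top : W ≤ ⊤) π ^ k • e) : IsGen s := by
  intro V hV
  have h1 : ∀ a : Γ(X, V), (twι π M m).app V (a • res _ hV s) =
      ores (le_top : V ≤ ⊤) π ^ k • (a • res M hV e) := by
    intro a
    rw [Scheme.Modules.Hom.app_smul, app_res, hs, res_smul, map_pow, ores_ores, smul_comm]
  constructor
  · intro a b hab
    have h2 := congr((twι π M m).app V $hab)
    simp only [h1] at h2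
    exact (he.res hV).ext (pow_smul_cancel hD hM k h2)
  · intro t
    obtain ⟨x', hx'⟩ := exists_smul_eq_of_divAt hD hM ((twι π M m).app V t) k (fun y hy hyD => by
      rw [← hk y (hV hy) hyD]
      exact divAt_twι t y hy hyD)
    obtain ⟨f, rfl⟩ := (he.res hV).exists_eq x'
    refine ⟨f, twι_injective V ?_⟩
    simp only [h1]
    exact hx'.symm

include hD in
theorem exists_isGen_tw {M : X.Modules} (hM : PicF.IsInvertible M) {m : X → ℕ} {W : X.Opens} {e : Γ(M, W)}
    (he : IsGen e) (k : ℕ) (hk : ∀ z ∈ W, z ∉ X.basicOpen π → m z = k) :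
    ∃ s : Γ(tw π M m, W), IsGen s ∧ (twι π M m).app W s = ores (le_top : W ≤ ⊤) π ^ k • e := by
  obtain ⟨s, hs⟩ := exists_tw (m := m) (ores (le_top : W ≤ ⊤) π ^ k • e) (fun y hy hyD => by
    rw [hk y hy hyD]
    exact divAt_smul e hy)
  exact ⟨s, isGen_tw hD hM he k hk s hs, hs⟩

include hD in
theorem exists_isGen_tw_of_le {M : X.Modules} (hM : PicF.IsInvertible M) {m : X → ℕ} {W : X.Opens} {e : Γ(M, W)}
    (he : IsGen e) (hW : W ≤ X.basicOpen π) :
    ∃ s : Γ(tw π M m, W), IsGen s ∧ (twι π M m).app W s = e := by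
  obtain ⟨s, h1, h2⟩ := exists_isGen_tw hD hM (m := m) he 0 (fun z hz hzD => absurd (hW hz) hzD)
  exact ⟨s, h1, by rw [h2, pow_zero, one_smul]⟩

include hD in
theorem isInvertible_tw {M : X.Modules} (hM : PicF.IsInvertible M) {m : X → ℕ}
    (hm : ∀ y : X, y ∉ X.basicOpen π → ∃ W : X.Opens, y ∈ W ∧ ∀ z ∈ W, z ∉ X.basicOpen π → m z = m y) :
    PicF.IsInvertible (tw π M m) := by
  rw [isInvertible_iff]
  intro y
  obtain ⟨U, e, hyU, he⟩ := (isInvertible_iff M).mp hM y
  by_cases hy : y ∈ X.basicOpen π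
  · obtain ⟨s, hs, -⟩ := exists_isGen_tw_of_le hD hM (m := m) (he.res (inf_le_left : U ⊓ X.basicOpen π ≤ U))
      inf_le_right
    exact ⟨_, s, ⟨hyU, hy⟩, hs⟩
  · obtain ⟨W, hyW, hW⟩ := hm y hy
    obtain ⟨s, hs, -⟩ := exists_isGen_tw hD hM (m := m) (he.res (inf_le_left : U ⊓ W ≤ U)) (m y)
      (fun z hz hzD => hW z hz.2 hzD)
    exact ⟨_, s, ⟨hyU, hyW⟩, hs⟩

include hD in
/-- The twisted module agrees with the module on `D(π)`. -/
theorem nonempty_pullback_iso {Z : Scheme.{u}} (g : Z ⟶ X) [IsOpenImmersion g]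
    (hg : g.opensRange ≤ X.basicOpen π) {M : X.Modules} (hM : PicF.IsInvertible M) (m : X → ℕ) :
    Nonempty ((Scheme.Modules.pullback g).obj (tw π M m) ≅ (Scheme.Modules.pullback g).obj M) := by
  have : IsIso ((Scheme.Modules.pullback g).map (twι π M m)) := by
    apply Groth.Agent.Grpsch.PicGrp.isIso_of_isGen
    intro z
    obtain ⟨U, e, hyU, he⟩ := (isInvertible_iff M).mp hM (g z)
    obtain ⟨s, hs, hs'⟩ := exists_isGen_tw_of_le hD hM (m := m) (he.res (inf_le_left : U ⊓ X.basicOpen π ≤ U))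
      inf_le_right
    refine ⟨g ⁻¹ᵁ (U ⊓ X.basicOpen π), pullSec g s, ⟨hyU, hg ⟨z, rfl⟩⟩, hs.pullSec g, ?_⟩
    rw [pullback_map_pullSec, hs']
    exact (he.res _).pullSec g
  exact ⟨asIso ((Scheme.Modules.pullback g).map (twι π M m))⟩

/-- The nonvanishing locus on `D(π)`. -/
theorem nv_inf_basicOpen {M : X.Modules} (hM : PicF.IsInvertible M) (m : X → ℕ) (s : Γ(tw π M m, ⊤))
    (hD : ∀ (U : X.Opens) (a b : Γ(X, U)), ores (tr_le π U) a = ores (tr_le π U) b → a = b) :
    nv _ s ⊓ X.basicOpen π = nv _ ((twι π M m).app ⊤ s) ⊓ X.basicOpen π := by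
  refine eq_of_forall_le_iff fun V => ?_
  rw [le_inf_iff, le_inf_iff]
  refine and_congr_left fun hV => ?_
  rw [le_nv_iff _ _ le_top, le_nv_iff _ _ le_top]
  rw [isGen_iff_forall_exists, isGen_iff_forall_exists]
  refine forall₂_congr fun x hx => ?_
  obtain ⟨U, e, hyU, he⟩ := (isInvertible_iff M).mp hM x
  obtain ⟨t, ht, ht'⟩ := exists_isGen_tw_of_le hD hM (m := m) (he.res (inf_le_left : U ⊓ V ≤ U))
    (inf_le_right.trans hV)
  have key : ∀ (W : X.Opens) (hW : W ≤ U ⊓ V), IsGen (res (tw π M m) (hW.trans (inf_le_right.trans le_top)) s) ↔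
      IsGen (res M (hW.trans (inf_le_right.trans le_top)) ((twι π M m).app ⊤ s)) := by
    intro W hW
    obtain ⟨a, ha⟩ := (ht.res hW).exists_eq (res (tw π M m) (hW.trans (inf_le_right.trans le_top)) s)
    have h1 := congr((twι π M m).app W $ha)
    rw [Scheme.Modules.Hom.app_smul, app_res, app_res, ht'] at h1
    rw [ha, h1, (ht.res hW).smul_iff, ((he.res _).res hW).smul_iff]
  constructor
  · rintro ⟨W, h, hxW, hg⟩
    refine ⟨W ⊓ (U ⊓ V), inf_le_right.trans inf_le_right, ⟨hxW, hyU, hx⟩, ?_⟩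
    have h2 := hg.res (inf_le_left : W ⊓ (U ⊓ V) ≤ W)
    rw [res_res, res_res] at h2
    rw [res_res]
    exact (key _ inf_le_right).mp h2
  · rintro ⟨W, h, hxW, hg⟩
    refine ⟨W ⊓ (U ⊓ V), inf_le_right.trans inf_le_right, ⟨hxW, hyU, hx⟩, ?_⟩
    have h2 := hg.res (inf_le_left : W ⊓ (U ⊓ V) ≤ W)
    rw [res_res]
    rw [res_res, res_res] at h2
    exact (key _ inf_le_right).mpr h2

end K362.Twist
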