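import Groth.Agent.Neron.K362.DivO
import Groth.Agent.Fdesc.LocGenPullback
import Groth.Agent.Fdesc.LocGenTensor

/-!
# Invertible modules trivial on `D(π)`

`X` a scheme, `π` a regular global function generating prime ideals in the local rings outside `D(π)`.

* `ExpOn s W k`: the generator `s` of `N` over `D(π)` is `π ^ k` times a generator on `W`.
* `E π J`: the group of pairs (class, exponents along the components of `V(π)`).
-/

set_option autoImplicit false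
universe u

open CategoryTheory CategoryTheory.Limits AlgebraicGeometry Opposite TopologicalSpace

namespace K362.Vert

open Groth.Agent.Fdesc.LocGen Groth.Agent.Fga.GenIso Groth.Agent.Ega2.Nv Groth.Agent.Ega2.Ample
open Groth.Agent.Sga7.H260.Div K362.Twist K362.DivO Groth.Agent.Grpsch.PicGrp

variable {X : Scheme.{u}} {π : Γ(X, ⊤)}

/-- The generator `s` over `D(π)` is `π ^ k` times a generator over `W`. -/
def ExpOn {N : X.Modules} (s : Γ(N, X.basicOpen π)) (W : X.Opens) (k : ℤ) : Prop :=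
  ∃ e : Γ(N, W), IsGen e ∧ res N (inf_le_left : X.basicOpen π ⊓ W ≤ X.basicOpen π) s =
    ((pu π (inf_le_left : X.basicOpen π ⊓ W ≤ X.basicOpen π) ^ k : Γ(X, X.basicOpen π ⊓ W)ˣ) :
      Γ(X, X.basicOpen π ⊓ W)) • res N inf_le_right e

theorem ExpOn.mono {N : X.Modules} {s : Γ(N, X.basicOpen π)} {W W' : X.Opens} {k : ℤ} (h : ExpOn s W k)
    (hW : W' ≤ W) : ExpOn s W' k := by
  obtain ⟨e, he, h1⟩ := h
  refine ⟨res N hW e, he.res hW, ?_⟩
  have h2 := congr(res N (inf_le_inf_left (X.basicOpen π) hW) $h1)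
  rw [res_res, res_smul, ores_pu_zpow, res_res] at h2
  rw [res_res]
  exact h2

section Reg

variable (hD : ∀ (U : X.Opens) (a b : Γ(X, U)), ores (tr_le π U) a = ores (tr_le π U) b → a = b)

include hD in
theorem ores_inf_injective {U : X.Opens} {a b : Γ(X, U)}
    (h : ores (inf_le_right : X.basicOpen π ⊓ U ≤ U) a = ores inf_le_right b) : a = b := by
  apply hD
  have h1 := congr(ores (show tr π U ≤ X.basicOpen π ⊓ U from le_inf (tr_le_D π U) (tr_le π U)) $h)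
  rwa [ores_ores, ores_ores] at h1

include hD in
theorem ExpOn.unique_aux {N : X.Modules} {s : Γ(N, X.basicOpen π)} {W : X.Opens} {y : X} (hy : y ∈ W)
    (hyD : y ∉ X.basicOpen π) {n : ℤ} {k : ℕ} (hn : ExpOn s W n) (hm : ExpOn s W (n + k)) : k = 0 := by
  obtain ⟨e, he, h1⟩ := hn
  obtain ⟨f, hf, h2⟩ := hm
  obtain ⟨b, hb, rfl⟩ := he.exists_unit hf
  rw [h1, res_smul, smul_smul] at h2
  have h3 := (he.res (inf_le_right : X.basicOpen π ⊓ W ≤ W)).ext h2
  rw [zpow_add, zpow_natCast, Units.val_mul, mul_assoc] at h3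
  have h4 := (Units.mul_right_inj _).mp ((mul_one _).trans h3)
  rw [Units.val_pow_eq_pow_val, pu_val] at h4
  have h5 : (1 : Γ(X, W)) = ores (le_top : W ≤ ⊤) π ^ k * b := by
    apply ores_inf_injective hD
    rw [map_one, h4, map_mul, map_pow, ores_ores]
  by_contra hk
  apply hyD
  have h6 : IsUnit (ores (le_top : W ≤ ⊤) π ^ k) := IsUnit.of_mul_eq_one b h5.symm
  have h7 := (isUnit_pow_iff hk).mp h6
  have h8 := h7.map (X.presheaf.germ W y hy).hom
  rw [Scheme.mem_basicOpen _ _ _ (show y ∈ (⊤ : X.Opens) from trivial)]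
  have h9 : (X.presheaf.germ W y hy) (ores (le_top : W ≤ ⊤) π) = X.presheaf.germ ⊤ y trivial π :=
    TopCat.Presheaf.germ_res_apply X.presheaf (homOfLE le_top) y hy π
  rwa [← h9]

include hD in
theorem ExpOn.unique {N : X.Modules} {s : Γ(N, X.basicOpen π)} {W W' : X.Opens} {y : X} (hy : y ∈ W)
    (hy' : y ∈ W') (hyD : y ∉ X.basicOpen π) {n m : ℤ} (hn : ExpOn s W n) (hm : ExpOn s W' m) : n = m := by
  have hn' := hn.mono (inf_le_left : W ⊓ W' ≤ W)
  have hm' := hm.mono (inf_le_right : W ⊓ W' ≤ W')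
  rcases le_total n m with h | h
  · obtain ⟨k, rfl⟩ := Int.exists_add_of_le h
    rw [ExpOn.unique_aux hD (show y ∈ W ⊓ W' from ⟨hy, hy'⟩) hyD hn' hm']
    simp
  · obtain ⟨k, rfl⟩ := Int.exists_add_of_le h
    rw [ExpOn.unique_aux hD (show y ∈ W ⊓ W' from ⟨hy, hy'⟩) hyD hm' hn']
    simp

theorem exists_ores_eq_inf {W : X.Opens} (hW : IsAffineOpen W) (c : Γ(X, X.basicOpen π ⊓ W)) :
    ∃ (N : ℕ) (a : Γ(X, W)), ores (inf_le_right : X.basicOpen π ⊓ W ≤ W) a =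
      ores (le_top : X.basicOpen π ⊓ W ≤ ⊤) π ^ N * c :=
  exists_ores_eq_of_eq hW (by rw [basicOpen_ores]) _ c

include hD in
/-- Existence of exponents. -/
theorem exists_expOn {N : X.Modules} (hN : PicF.IsInvertible N) {s : Γ(N, X.basicOpen π)} (hs : IsGen s) {y : X}
    (hp : (Ideal.span {gp π y}).IsPrime) :
    ∃ (W : X.Opens) (n : ℤ), y ∈ W ∧ ExpOn s W n := by
  obtain ⟨U', e', hyU', he'⟩ := (isInvertible_iff N).mp hN y
  obtain ⟨W, hW, hyW, hWU⟩ := exists_isAffineOpen_mem_and_subset (U := U') hyU'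
  replace hWU : W ≤ U' := hWU
  obtain ⟨e₁', h1'⟩ : ∃ e₁' : Γ(N, W), IsGen e₁' := ⟨_, he'.res hWU⟩
  obtain ⟨f, hf, hfe⟩ := (h1'.res (inf_le_right : X.basicOpen π ⊓ W ≤ W)).exists_unit
    (hs.res (inf_le_left : X.basicOpen π ⊓ W ≤ X.basicOpen π))
  obtain ⟨f', hf'⟩ := hf.exists_right_inv
  obtain ⟨N₁, a, ha⟩ := exists_ores_eq_inf hW f
  obtain ⟨M, b, hb⟩ := exists_ores_eq_inf hW f'
  have hab : a * b = ores (le_top : W ≤ ⊤) π ^ (N₁ + M) := by
    apply ores_inf_injective hD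
    rw [map_mul, ha, hb, map_pow, ores_ores, pow_add]
    linear_combination (ores (le_top : X.basicOpen π ⊓ W ≤ ⊤) π ^ N₁ *
      ores (le_top : X.basicOpen π ⊓ W ≤ ⊤) π ^ M) * hf'
  have hab' := congr(ge hyW $hab)
  rw [map_mul, map_pow, ge_ores] at hab'
  obtain ⟨u, i, hu, hui⟩ := exists_unit_mul_pow (ge_regular hD) hp _ _ _ hab'
  obtain ⟨W₁, hyW₁, v, hv, rfl⟩ := exists_unit_of_ge_unit u hu
  have h2 : ge hyW a = ge hyW₁ (v * ores (le_top : W₁ ≤ ⊤) π ^ i) := by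
    rw [hui, map_mul, map_pow, ge_ores]
  obtain ⟨W₂, h3, h4, hyW₂, h5⟩ := exists_ores_eq_of_ge_eq _ _ _ _ h2
  rw [map_mul, map_pow, ores_ores] at h5
  refine ⟨W₂, i - N₁, hyW₂, ores h4 v • res N h3 e₁', (h1'.res h3).unit_smul (hv.map _), ?_⟩
  have hi : X.basicOpen π ⊓ W₂ ≤ X.basicOpen π ⊓ W := inf_le_inf_left _ h3
  have h6 := congr(res N hi $hfe)
  rw [res_res, res_smul, res_res] at h6
  rw [h6, res_smul, smul_smul, res_res]
  congr 1
  have h7 := congr(ores hi $ha)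
  rw [ores_ores, map_mul, map_pow, ores_ores] at h7
  have h8 := congr(ores (inf_le_right : X.basicOpen π ⊓ W₂ ≤ W₂) $h5)
  rw [ores_ores, map_mul, map_pow, ores_ores, ores_ores] at h8
  have h9 : ores hi f * ((pu π (inf_le_left : X.basicOpen π ⊓ W₂ ≤ X.basicOpen π) ^ N₁ :
        Γ(X, X.basicOpen π ⊓ W₂)ˣ) : Γ(X, X.basicOpen π ⊓ W₂)) =
      ores ((inf_le_right : X.basicOpen π ⊓ W₂ ≤ W₂).trans h4) v *
        ((pu π (inf_le_left : X.basicOpen π ⊓ W₂ ≤ X.basicOpen π) ^ i : Γ(X, X.basicOpen π ⊓ W₂)ˣ) :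
          Γ(X, X.basicOpen π ⊓ W₂)) := by
    rw [Units.val_pow_eq_pow_val, Units.val_pow_eq_pow_val, pu_val, ← h8, mul_comm]
    exact h7.symm
  rw [ores_ores, zpow_sub, zpow_natCast, zpow_natCast, Units.val_mul]
  rw [← Units.eq_mul_inv_iff_mul_eq] at h9
  rw [h9]
  ring

end Reg

/-- Exponents of tensor products. -/
theorem ExpOn.tmul {N N' : X.Modules} {s : Γ(N, X.basicOpen π)} {s' : Γ(N', X.basicOpen π)} {W : X.Opens} {k k' : ℤ}
    (h : ExpOn s W k) (h' : ExpOn s' W k') : ExpOn (tmul s s') W (k + k') := by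
  obtain ⟨e, he, h1⟩ := h
  obtain ⟨e', he', h1'⟩ := h'
  refine ⟨Groth.Agent.Fdesc.LocGen.tmul e e', he.tmul he', ?_⟩
  rw [res_tmul, h1, h1', smul_tmul, tmul_smul, smul_smul, res_tmul, zpow_add, Units.val_mul]

theorem expOn_one (W : X.Opens) : ExpOn (π := π) (one (X.basicOpen π)) W 0 :=
  ⟨one W, isGen_one W, by rw [res_one, res_one, zpow_zero, Units.val_one, one_smul]⟩

/-- Exponents of the dual generator. -/
theorem ExpOn.dgen {N : X.Modules} {s : Γ(N, X.basicOpen π)} (hs : IsGen s) {W : X.Opens} {k : ℤ}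
    (h : ExpOn s W k) : ExpOn (dgen hs) W (-k) := by
  obtain ⟨e, he, h1⟩ := h
  refine ⟨Groth.Agent.Grpsch.PicGrp.dgen he, isGen_dgen he, ?_⟩
  obtain ⟨β, hβ, h2⟩ := ((isGen_dgen he).res (inf_le_right : X.basicOpen π ⊓ W ≤ W)).exists_unit
    ((isGen_dgen hs).res (inf_le_left : X.basicOpen π ⊓ W ≤ X.basicOpen π))
  have h3 : ∀ {U V : X.Opens} (hV : V ≤ U) {a : Γ(N, U)} (ha : IsGen a),
      (ev N).app V (Groth.Agent.Fdesc.LocGen.tmul (res N hV a) (res _ hV (Groth.Agent.Grpsch.PicGrp.dgen ha))) = one V := by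
    intro U V hV a ha
    rw [← res_tmul, app_res, ev_tmul, comp_dgen_self, res_one]
  have h4 := h3 (inf_le_left : X.basicOpen π ⊓ W ≤ X.basicOpen π) hs
  rw [h1, h2, smul_tmul, tmul_smul, smul_smul, Scheme.Modules.Hom.app_smul,
    h3 (inf_le_right : X.basicOpen π ⊓ W ≤ W) he] at h4
  have h5 : ((pu π (inf_le_left : X.basicOpen π ⊓ W ≤ X.basicOpen π) ^ k : Γ(X, X.basicOpen π ⊓ W)ˣ) :
      Γ(X, X.basicOpen π ⊓ W)) * β = 1 :=
    (isGen_one (X.basicOpen π ⊓ W)).ext (by rw [one_smul]; exact h4)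
  rw [h2]
  congr 1
  rw [zpow_neg]
  exact (Units.inv_eq_of_mul_eq_one_right h5).symm

/-- Isomorphism invariance. -/
theorem ExpOn.app {N N' : X.Modules} (φ : N ⟶ N') [IsIso φ] {s : Γ(N, X.basicOpen π)} {W : X.Opens} {k : ℤ}
    (h : ExpOn s W k) : ExpOn (φ.app _ s) W k := by
  obtain ⟨e, he, h1⟩ := h
  refine ⟨φ.app _ e, he.app φ, ?_⟩
  rw [← app_res, h1, Scheme.Modules.Hom.app_smul, app_res]

section Pull

variable (τ : X ⟶ X) (hτ : τ.appTop π = π)

include hτ in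
theorem preimage_basicOpen : τ ⁻¹ᵁ X.basicOpen π = X.basicOpen π := by
  rw [Scheme.preimage_basicOpen_top, hτ]

/-- The pulled back generator. -/
noncomputable def pullGen {N : X.Modules} (s : Γ(N, X.basicOpen π)) :
    Γ((Scheme.Modules.pullback τ).obj N, X.basicOpen π) :=
  res _ (preimage_basicOpen τ hτ).ge (pullSec τ s)

theorem isGen_pullGen {N : X.Modules} {s : Γ(N, X.basicOpen π)} (hs : IsGen s) : IsGen (pullGen τ hτ s) :=
  (hs.pullSec τ).res _

include hτ in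
theorem ores_app_zpow {U : X.Opens} (hU : U ≤ X.basicOpen π) {V : X.Opens} (hV : V ≤ τ ⁻¹ᵁ U)
    (hV' : V ≤ X.basicOpen π) (k : ℤ) :
    ores hV ((τ.app U).hom ((pu π hU ^ k : Γ(X, U)ˣ) : Γ(X, U))) = ((pu π hV' ^ k : Γ(X, V)ˣ) : Γ(X, V)) := by
  have h1 : Units.map ((ores hV).comp (τ.app U).hom).toMonoidHom (pu π hU) = pu π hV' := by
    ext
    change ores hV ((τ.app U).hom (ores le_top π)) = ores le_top π
    have h2 : (τ.app U).hom (ores (le_top : U ≤ ⊤) π) = ores (le_top : τ ⁻¹ᵁ U ≤ ⊤) (τ.appTop π) := by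
      have := τ.naturality (homOfLE (le_top : U ≤ ⊤)).op
      exact congr($this π)
    rw [h2, hτ, ores_ores]
  rw [← h1, ← map_zpow]
  rfl

theorem ExpOn.pull {N : X.Modules} {s : Γ(N, X.basicOpen π)} {W : X.Opens} {k : ℤ} (h : ExpOn s W k) :
    ExpOn (pullGen τ hτ s) (τ ⁻¹ᵁ W) k := by
  obtain ⟨e, he, h1⟩ := h
  refine ⟨pullSec τ e, he.pullSec τ, ?_⟩
  have h2 := congr(pullSec τ $h1)
  rw [pullSec_smul, ← res_pullSec, ← res_pullSec] at h2
  have hle : X.basicOpen π ⊓ τ ⁻¹ᵁ W ≤ τ ⁻¹ᵁ (X.basicOpen π ⊓ W) :=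
    le_inf (inf_le_left.trans (preimage_basicOpen τ hτ).ge) inf_le_right
  have h3 := congr(res _ hle $h2)
  rw [res_smul, res_res, res_res] at h3
  rw [pullGen, res_res, h3]
  congr 1
  exact ores_app_zpow τ hτ _ _ _ k

end Pull

end K362.Vert
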