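import Groth.Agent.Neron.K362.Vert
import Mathlib.RingTheory.Noetherian.Basic

/-!
# The group of invertible modules trivial on `D(π)`

* `vert π`: the subgroup of `Pic X` of classes with a generator over `D(π)`; it is a finitely generated abelian group
  (`isNoetherian_vert`), every class trivial on `D(π)` belongs to it (`mem_vert_of_pull_eq_one`), and endomorphisms of
  `X` fixing `π` and preserving the components of `V(π)` act trivially on it (`pull_eq_of_mem_vert`).
-/

set_option autoImplicit false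
universe u

open CategoryTheory CategoryTheory.Limits AlgebraicGeometry Opposite TopologicalSpace

namespace K362.VertGrp

open Groth.Agent.Fdesc.LocGen Groth.Agent.Fga.GenIso Groth.Agent.Ega2.Nv Groth.Agent.Ega2.Ample
open Groth.Agent.Sga7.H260.Div K362.Twist K362.DivO Groth.Agent.Grpsch.PicGrp K362.Vert

variable {X : Scheme.{u}} (π : Γ(X, ⊤))

/-- The set of components of `V(π)`. -/
def cmpSet : Set (Set X) := Set.range fun y : {y : X // y ∉ X.basicOpen π} => cmp π y.1

variable {π} in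
/-- The component of a point. -/
def idx (y : X) (hy : y ∉ X.basicOpen π) : cmpSet π := ⟨cmp π y, ⟨y, hy⟩, rfl⟩

/-- `c` has a generator over `D(π)` with exponents `n`. -/
def Rep (c : Pic X) (n : cmpSet π → ℤ) : Prop :=
  ∃ (N : X.Modules) (hN : PicF.IsInvertible N) (s : Γ(N, X.basicOpen π)), IsGen s ∧ mk N hN = c ∧
    ∀ (y : X) (hy : y ∉ X.basicOpen π), ∃ W : X.Opens, y ∈ W ∧ ExpOn s W (n (idx y hy))

variable {π}

theorem rep_one : Rep π 1 0 :=
  ⟨_, isInvertible_structureModule, Groth.Agent.Fdesc.LocGen.one _, isGen_one _, rfl, fun y hy => ⟨⊤, trivial, expOn_one ⊤⟩⟩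

theorem Rep.mul {c c' : Pic X} {n n' : cmpSet π → ℤ} (h : Rep π c n) (h' : Rep π c' n') :
    Rep π (c * c') (n + n') := by
  obtain ⟨N, hN, s, hs, rfl, h⟩ := h
  obtain ⟨N', hN', s', hs', rfl, h'⟩ := h'
  refine ⟨_, isInvertible_tensorMod hN hN', tmul s s', hs.tmul hs', rfl, fun y hy => ?_⟩
  obtain ⟨W, hyW, hW⟩ := h y hy
  obtain ⟨W', hyW', hW'⟩ := h' y hy
  exact ⟨W ⊓ W', ⟨hyW, hyW'⟩, (hW.mono inf_le_left).tmul (hW'.mono inf_le_right)⟩

theorem Rep.inv {c : Pic X} {n : cmpSet π → ℤ} (h : Rep π c n) : Rep π c⁻¹ (-n) := by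
  obtain ⟨N, hN, s, hs, rfl, h⟩ := h
  refine ⟨_, isInvertible_dual hN, dgen hs, isGen_dgen hs, rfl, fun y hy => ?_⟩
  obtain ⟨W, hyW, hW⟩ := h y hy
  exact ⟨W, hyW, hW.dgen hs⟩

theorem Rep.pull (τ : X ⟶ X) (hτ : τ.appTop π = π)
    (hcmp : ∀ y : X, y ∉ X.basicOpen π → cmp π (τ y) = cmp π y) {c : Pic X} {n : cmpSet π → ℤ} (h : Rep π c n) :
    Rep π (Groth.Agent.Grpsch.PicGrp.pull τ c) n := by
  obtain ⟨N, hN, s, hs, rfl, h⟩ := h
  refine ⟨_, isInvertible_pullback τ hN, pullGen τ hτ s, isGen_pullGen τ hτ hs, (pull_mk τ hN).symm,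
    fun y hy => ?_⟩
  have hy' : τ y ∉ X.basicOpen π := by
    intro h1
    apply hy
    rw [← preimage_basicOpen τ hτ]
    exact h1
  obtain ⟨W, hyW, hW⟩ := h (τ y) hy'
  have h1 : idx (τ y) hy' = idx y hy := Subtype.ext (hcmp y hy)
  rw [h1] at hW
  exact ⟨τ ⁻¹ᵁ W, hyW, hW.pull τ hτ⟩

section Reg

variable (hD : ∀ (U : X.Opens) (a b : Γ(X, U)), ores (tr_le π U) a = ores (tr_le π U) b → a = b)

include hD in
/-- A class with vanishing exponents is trivial. -/
theorem Rep.eq_one {c : Pic X} (h : Rep π c 0) : c = 1 := by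
  obtain ⟨N, hN, s, hs, rfl, h⟩ := h
  have key : ∀ y : X, ∃ (W : X.Opens) (e : Γ(N, W)), y ∈ W ∧ IsGen e ∧
      res N (inf_le_left : X.basicOpen π ⊓ W ≤ X.basicOpen π) s = res N inf_le_right e := by
    intro y
    by_cases hy : y ∈ X.basicOpen π
    · exact ⟨X.basicOpen π, s, hy, hs, rfl⟩
    · obtain ⟨W, hyW, e, he, h1⟩ := h y hy
      refine ⟨W, e, hyW, he, ?_⟩
      rw [h1]
      simp
  choose W e hyW he hse using key
  have hcov : (⊤ : X.Opens) ≤ ⨆ y, W y := fun x _ => Opens.mem_iSup.mpr ⟨x, hyW x⟩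
  obtain ⟨t, ht⟩ := res_glue N (V := ⊤) W (fun _ => le_top) hcov e (by
    intro x y
    apply res_tr_injective hD hN
    have hle : tr π (W x ⊓ W y) ≤ X.basicOpen π ⊓ (W x ⊓ W y) := le_inf (tr_le_D π _) (tr_le π _)
    have h1 := congr(res N (hle.trans (inf_le_inf_left _ inf_le_left)) $(hse x))
    have h2 := congr(res N (hle.trans (inf_le_inf_left _ inf_le_right)) $(hse y))
    rw [res_res, res_res] at h1 h2
    rw [res_res, res_res, ← h1, ← h2])
  have hgen : IsGen t := IsGen.of_cover W (fun _ => le_top) hcov (fun y => by rw [ht y]; exact he y)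
  have : IsIso (homOf t) := (isIso_iff_isGen _).mpr (by simpa using hgen)
  rw [one_def, mk_eq_iff]
  exact ⟨(asIso (homOf t)).symm⟩

variable (π) in
/-- The group of pairs (class, exponents). -/
noncomputable def E : Subgroup (Pic X × Multiplicative (cmpSet π → ℤ)) where
  carrier := {p | Rep π p.1 p.2.toAdd}
  mul_mem' ha hb := ha.mul hb
  one_mem' := rep_one
  inv_mem' ha := ha.inv

variable (π) in
/-- The group of classes with a generator over `D(π)` and well defined exponents. -/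
noncomputable def vert : Subgroup (Pic X) := (E π).map (MonoidHom.fst _ _)

theorem mem_vert {c : Pic X} : c ∈ vert π ↔ ∃ n : cmpSet π → ℤ, Rep π c n := by
  constructor
  · rintro ⟨⟨c, n⟩, h, rfl⟩
    exact ⟨n.toAdd, h⟩
  · rintro ⟨n, h⟩
    exact ⟨⟨c, Multiplicative.ofAdd n⟩, h, rfl⟩

include hD in
theorem isNoetherian_vert [Finite (cmpSet π)] : IsNoetherian ℤ (Additive (vert π)) := by
  have h1 : IsNoetherian ℤ (cmpSet π → ℤ) := inferInstance
  let f : Additive (E π) →+ (cmpSet π → ℤ) :=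
    { toFun := fun p => (p.toMul.1.2).toAdd
      map_zero' := rfl
      map_add' := fun _ _ => rfl }
  have hf : Function.Injective f := by
    rw [injective_iff_map_eq_zero]
    intro p hp
    have h2 : Rep π p.toMul.1.1 p.toMul.1.2.toAdd := p.toMul.2
    have h3 : p.toMul.1.2.toAdd = 0 := hp
    rw [h3] at h2
    have h4 := Rep.eq_one hD h2
    have h5 : p.toMul.1 = 1 := Prod.ext h4 h3
    exact Subtype.ext h5
  have h2 : IsNoetherian ℤ (Additive (E π)) := isNoetherian_of_injective f.toIntLinearMap hf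
  let g : Additive (E π) →+ Additive (vert π) :=
    { toFun := fun p => Additive.ofMul ⟨p.toMul.1.1, ⟨p.toMul.1, p.toMul.2, rfl⟩⟩
      map_zero' := rfl
      map_add' := fun _ _ => rfl }
  refine isNoetherian_of_surjective (f := g.toIntLinearMap) (LinearMap.range_eq_top.mpr ?_)
  rintro ⟨c, ⟨p, hp, rfl⟩⟩
  exact ⟨Additive.ofMul ⟨p, hp⟩, rfl⟩

include hD in
theorem pull_eq_of_mem_vert (τ : X ⟶ X) (hτ : τ.appTop π = π)
    (hcmp : ∀ y : X, y ∉ X.basicOpen π → cmp π (τ y) = cmp π y) {c : Pic X} (hc : c ∈ vert π) :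
    Groth.Agent.Grpsch.PicGrp.pull τ c = c := by
  obtain ⟨n, h⟩ := mem_vert.mp hc
  have h1 := (h.pull τ hτ hcmp).mul h.inv
  rw [add_neg_cancel] at h1
  exact mul_inv_eq_one.mp (Rep.eq_one hD h1)

include hD in
/-- A class trivial on `D(π)` belongs to `vert`. -/
theorem mem_vert_of_pull_eq_one (hp : ∀ y : X, y ∉ X.basicOpen π → (Ideal.span {gp π y}).IsPrime)
    {Z : Scheme.{u}} (g : Z ⟶ X) [IsOpenImmersion g] (hg : g.opensRange = X.basicOpen π) (c : Pic X)
    (hc : Groth.Agent.Grpsch.PicGrp.pull g c = 1) : c ∈ vert π := by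
  classical
  obtain ⟨N, hN, rfl⟩ := exists_mk c
  rw [pull_mk, one_def, mk_eq_iff] at hc
  obtain ⟨e⟩ := hc
  have h1 : IsGen (e.inv.app ⊤ (one ⊤)) := (isGen_one ⊤).app e.inv
  have h2 : IsGen (((Scheme.Modules.restrictFunctorIsoPullback g).inv.app N).app ⊤ (e.inv.app ⊤ (one ⊤))) := h1.app _
  obtain ⟨t, ht⟩ := (toRestrict (M := N) g (U := ⊤)).surjective
    (((Scheme.Modules.restrictFunctorIsoPullback g).inv.app N).app ⊤ (e.inv.app ⊤ (one ⊤)))
  rw [← ht, isGen_toRestrict_iff] at h2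
  have hle : X.basicOpen π ≤ g ''ᵁ ⊤ := by rw [g.image_top_eq_opensRange, hg]
  let s : Γ(N, X.basicOpen π) := res N hle t
  have hs : IsGen s := h2.res hle
  have key := fun (y : X) (hy : y ∉ X.basicOpen π) => exists_expOn hD hN hs (hp y hy)
  choose W k hyW hk using key
  -- the exponent is constant on components
  have hconst : ∀ (y : X) (hy : y ∉ X.basicOpen π) (z : X) (hz : z ∉ X.basicOpen π), cmp π y = cmp π z →
      k y hy = k z hz := by
    intro y hy z hz hyz
    let f : X → ℤ := fun w => if hw : w ∉ X.basicOpen π then k w hw else 0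
    have hf : ContinuousOn f (cmp π y) := by
      intro w hw
      have hwD := cmp_subset hw
      have h3 : f w = k w hwD := dif_pos hwD
      refine ContinuousWithinAt.congr_of_eventuallyEq (f := fun _ => k w hwD) continuousWithinAt_const ?_ h3
      rw [Filter.eventuallyEq_iff_exists_mem]
      refine ⟨cmp π y ∩ W w hwD, Filter.inter_mem self_mem_nhdsWithin
        (mem_nhdsWithin_of_mem_nhds ((W w hwD).2.mem_nhds (hyW w hwD))), fun v hv => ?_⟩
      have hvD := cmp_subset hv.1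
      have h4 : f v = k v hvD := dif_pos hvD
      rw [h4]
      exact ExpOn.unique hD (hyW v hvD) hv.2 hvD (hk v hvD) (hk w hwD)
    have h3 : f y = f z := IsPreconnected.constant (s := cmp π y) isPreconnected_connectedComponentIn hf (mem_cmp hy)
      (by rw [hyz]; exact mem_cmp hz)
    have h4 : f y = k y hy := dif_pos hy
    have h5 : f z = k z hz := dif_pos hz
    rw [← h4, ← h5, h3]
  rw [mem_vert]
  choose pt hpt using fun C : cmpSet π => C.2
  refine ⟨fun C => k (pt C).1 (pt C).2, N, hN, s, hs, rfl, fun y hy => ⟨W y hy, hyW y hy, ?_⟩⟩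
  have h3 : k (pt (idx y hy)).1 (pt (idx y hy)).2 = k y hy := hconst _ _ _ _ (hpt (idx y hy))
  change ExpOn s (W y hy) (k (pt (idx y hy)).1 (pt (idx y hy)).2)
  rw [h3]
  exact hk y hy

end Reg

end K362.VertGrp
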